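import Cfsg.Agent.H21.Dichotomy.Setup

/-!
The centralizer of the central involution `z` normalizes the closure `W`.
-/

set_option autoImplicit false
set_option linter.unusedSectionVars false

namespace Cfsg.Agent.H21.Dichotomy

open Subgroup Cfsg.Agent.Fusion.Signalizer Cfsg.Agent.H70.Balanced
open Cfsg (centralizerPPrimeCore)

universe u

variable {G : Type u} [Group G] [Finite G]

local instance : Fact (Nat.Prime 2) := ⟨Nat.prime_two⟩

theorem frattini_inf {H : Type u} [Group H] [Finite H] (P : Sylow 2 H) (K : Subgroup H) [K.Normal] :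
    normalizer ((((P : Subgroup H) ⊓ K : Subgroup H)) : Set H) ⊔ K = ⊤ := by
  have hidx : ¬ 2 ∣ ((P : Subgroup H).subgroupOf K).index := fun hdvd => P.not_dvd_index (by
    refine hdvd.trans ?_
    set r := ((P : Subgroup H).subgroupOf K).index
    have h1 : Nat.card ↥((P : Subgroup H).subgroupOf K) * r = Nat.card K := Subgroup.card_mul_index _
    rw [← inf_subgroupOf_right, Nat.card_congr (subgroupOfEquivOfLe (inf_le_right)).toEquiv] at h1
    have h2 := Cores.card_sup_mul_card_inf (P : Subgroup H) K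
    have hpos : 0 < Nat.card ↥((P : Subgroup H) ⊓ K) := Nat.card_pos
    have h3 : Nat.card P * r = Nat.card ↥((P : Subgroup H) ⊔ K) := by
      refine Nat.eq_of_mul_eq_mul_right hpos ?_
      rw [h2, ← h1]; ring
    have h4 : Nat.card P * r ∣ Nat.card P * (P : Subgroup H).index := by
      rw [h3, Subgroup.card_mul_index]; exact card_subgroup_dvd_card _
    exact Nat.dvd_of_mul_dvd_mul_left Nat.card_pos h4)
  let Q : Sylow 2 K := (P.isPGroup'.comap_subtype (K := K)).toSylow hidx
  have h := Sylow.normalizer_sup_eq_top Q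
  rwa [show (Q : Subgroup K).map K.subtype = (P : Subgroup H) ⊓ K from subgroupOf_map_subtype _ _] at h

theorem four_map' {U : Subgroup G} (hU : Four U) (n : G) :
    Four (U.map (MulAut.conj n).toMonoidHom) := four_map hU n

theorem not_isCyclic_four {U : Subgroup G} (hU : Four U) : ¬ IsCyclic U := by
  intro hc
  obtain ⟨g, hg⟩ := hc.exists_generator
  have h := orderOf_eq_card_of_forall_mem_zpowers hg
  rw [hU.2] at h
  have h2 : orderOf g ∣ 2 := orderOf_dvd_of_pow_eq_one (Subtype.ext (by simpa using hU.1.2 g g.2))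
  rw [h] at h2
  norm_num at h2

namespace Hyp

variable {S : Sylow 2 G} {V : Subgroup G} {z u : G}

theorem S_le_Cz (h : Hyp S V z u) : (S : Subgroup G) ≤ centralizer ({z} : Set G) :=
  fun s hs => mem_centralizer_singleton_iff.2 (h.zc s hs)

theorem S_relIndex (h : Hyp S V z u) :
    ¬ 2 ∣ (S : Subgroup G).relIndex (centralizer ({z} : Set G)) :=
  fun hd => S.not_dvd_index (hd.trans (relIndex_dvd_index_of_le h.S_le_Cz))

theorem u_cond (h : Hyp S V z u) : ∀ s ∈ (S : Subgroup G), s * u * s⁻¹ = u ∨ s * u * s⁻¹ = u * z :=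
  fun _ hs => h.zu_comm ▸ h.conj_u hs

theorem damp_u (h : Hyp S V z u) : Damp u z :=
  damp_of_sylow (h.hcon z h.zo) h.S_le_Cz S.isPGroup' h.S_relIndex h.zo h.zu_comm.symm h.u_cond

theorem conj_S0 (h : Hyp S V z u) {s g : G} (hs : s ∈ (S : Subgroup G))
    (hg : g ∈ (S : Subgroup G) ⊓ centralizer ({u} : Set G)) :
    s * g * s⁻¹ ∈ (S : Subgroup G) ⊓ centralizer ({u} : Set G) := by
  refine ⟨(S : Subgroup G).mul_mem ((S : Subgroup G).mul_mem hs hg.1) ((S : Subgroup G).inv_mem hs),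
    mem_centralizer_singleton_iff.2 ?_⟩
  have hv : s⁻¹ * u * s ∈ V := by
    have := h.conjV s⁻¹ (inv_mem hs) u h.uV
    rwa [inv_inv] at this
  have e := h.centV hg.1 hg.2 _ hv
  calc s * g * s⁻¹ * u = s * (g * (s⁻¹ * u * s)) * s⁻¹ := by group
    _ = s * (s⁻¹ * u * s * g) * s⁻¹ := by rw [e]
    _ = u * (s * g * s⁻¹) := by group

theorem card_S0 (h : Hyp S V z u) :
    Nat.card S ≤ 2 * Nat.card ↥((S : Subgroup G) ⊓ centralizer ({u} : Set G)) := by
  classical
  by_cases hy : ∃ y ∈ (S : Subgroup G), y ∉ centralizer ({u} : Set G)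
  · obtain ⟨y, hy, hyu⟩ := hy
    let f : ↥(S : Subgroup G) → ↥((S : Subgroup G) ⊓ centralizer ({u} : Set G)) × Bool := fun d =>
      if hd : (d : G) ∈ centralizer ({u} : Set G) then (⟨d, d.2, hd⟩, true)
      else (⟨d * y, mul_mem d.2 hy, ((h.index_two d.2 hy hyu).resolve_left hd)⟩, false)
    have hf : Function.Injective f := by
      intro a b e
      simp only [f] at e
      split_ifs at e
      · exact Subtype.ext (by simpa using congrArg (fun w => (w.1 : G)) e)
      · exact Bool.noConfusion (congrArg Prod.snd e)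
      · exact Bool.noConfusion (congrArg Prod.snd e)
      · exact Subtype.ext (mul_right_cancel (congrArg (fun w => (w.1 : G)) e))
    have := Nat.card_le_card_of_injective f hf
    rw [Nat.card_prod, show Nat.card Bool = 2 by simp] at this
    omega
  · push Not at hy
    rw [show (S : Subgroup G) ⊓ centralizer ({u} : Set G) = S from inf_eq_left.2 hy]
    omega

theorem damp_z (h : Hyp S V z u) : Damp z u := by
  set C := centralizer ({u} : Set G) with hC
  set S0 := (S : Subgroup G) ⊓ C with hS0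
  obtain ⟨P, hP⟩ := ((S.isPGroup'.to_le (inf_le_left : S0 ≤ S)).comap_subtype (K := C)).exists_le_sylow
  set T := (P : Subgroup C).map C.subtype with hTdef
  have hS0T : S0 ≤ T := fun g hg => ⟨⟨g, hg.2⟩, hP hg, rfl⟩
  have hTp : IsPGroup 2 T := P.isPGroup'.map _
  have hTi : ¬ 2 ∣ T.relIndex C := by
    rw [relIndex, subgroupOf, hTdef, comap_map_eq_self_of_injective C.subtype_injective]
    exact P.not_dvd_index
  have hcard : Nat.card T ≤ 2 * Nat.card S0 := by
    obtain ⟨g, hg⟩ := H39.exists_conj_le_sylow hTp S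
    have h1 : Nat.card T ≤ Nat.card S := by
      rw [← H39.card_map_conj T g]
      refine card_le_of_le ?_
      rintro _ ⟨t, ht, rfl⟩
      exact hg t ht
    exact h1.trans h.card_S0
  have hn : (S0.subgroupOf T).Normal := by
    have h1 := (S0.subgroupOf T).card_mul_index
    rw [Nat.card_congr (subgroupOfEquivOfLe hS0T).toEquiv] at h1
    have hpos : 0 < Nat.card S0 := Nat.card_pos
    have h2 : (S0.subgroupOf T).index ≤ 2 := by nlinarith
    rcases Nat.lt_or_ge (S0.subgroupOf T).index 2 with h3 | h3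
    · have h4 : (S0.subgroupOf T).index = 1 := by
        have := (S0.subgroupOf T).index_ne_zero_of_finite
        omega
      rw [index_eq_one.1 h4]
      infer_instance
    · exact normal_of_index_eq_two (by omega)
  have hconjT : ∀ t ∈ T, ∀ g ∈ S0, t * g * t⁻¹ ∈ S0 := fun t ht g hg =>
    hn.conj_mem ⟨g, hS0T hg⟩ hg ⟨t, ht⟩
  let Z : Subgroup G :=
    { carrier := {g | g ∈ S0 ∧ g * g = 1 ∧ ∀ k ∈ S0, g * k = k * g}
      one_mem' := ⟨one_mem _, one_mul 1, fun k _ => by simp⟩
      mul_mem' := fun {a b} ha hb => ⟨mul_mem ha.1 hb.1,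
        by
          calc a * b * (a * b) = a * (b * a) * b := by group
            _ = a * (a * b) * b := by rw [hb.2.2 a ha.1]
            _ = a * a * (b * b) := by group
            _ = 1 := by rw [ha.2.1, hb.2.1, one_mul],
        fun k hk => by rw [mul_assoc, hb.2.2 k hk, ← mul_assoc, ha.2.2 k hk, mul_assoc]⟩
      inv_mem' := fun {a} ha => ⟨inv_mem ha.1, by rw [← mul_inv_rev, ha.2.1, inv_one],
        fun k hk => ((show Commute a k from ha.2.2 k hk).inv_left).eq⟩ }
  have hZconj : ∀ t, (∀ g ∈ S0, t * g * t⁻¹ ∈ S0) → (∀ g ∈ S0, t⁻¹ * g * t ∈ S0) →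
      ∀ g ∈ Z, t * g * t⁻¹ ∈ Z := by
    intro t h1 h2 g hg
    refine ⟨h1 g hg.1, ?_, fun k hk => ?_⟩
    · calc t * g * t⁻¹ * (t * g * t⁻¹) = t * (g * g) * t⁻¹ := by group
        _ = 1 := by rw [hg.2.1]; group
    · calc t * g * t⁻¹ * k = t * (g * (t⁻¹ * k * t)) * t⁻¹ := by group
        _ = t * (t⁻¹ * k * t * g) * t⁻¹ := by rw [hg.2.2 _ (h2 k hk)]
        _ = k * (t * g * t⁻¹) := by group
  have hVS0 : ∀ v ∈ V, v ∈ S0 := fun v hv =>
    ⟨h.le hv, mem_centralizer_singleton_iff.2 (H36.NilPPrime.elem_comm h.four.1 hv h.uV)⟩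
  have hVZ : V ≤ Z := fun v hv => ⟨hVS0 v hv, by rw [← pow_two]; exact h.four.1.2 v hv,
    fun k hk => (h.centV hk.1 hk.2 v hv).symm⟩
  have hZe : Cfsg.IsElementaryAbelian 2 Z :=
    ⟨⟨⟨fun a b => Subtype.ext (a.2.2.2 b b.2.1)⟩⟩, fun a ha => by rw [pow_two]; exact ha.2.1⟩
  have hZV : Z = V := by
    refine (eq_of_le_of_card_ge hVZ ?_).symm
    rw [h.four.2]
    refine h.small Z (fun g hg => hg.1.1) hZe fun s hs => hZconj s (fun g hg => h.conj_S0 hs hg)
      fun g hg => ?_
    have := h.conj_S0 (inv_mem hs) hg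
    rwa [inv_inv] at this
  refine damp_of_sylow (h.hcon u h.uo) (map_subtype_le _) hTp hTi h.uo h.zu_comm fun t ht => ?_
  have hm : t * z * t⁻¹ ∈ V := by
    rw [← hZV]
    refine hZconj t (hconjT t ht) (fun g hg => ?_) z (hVZ h.zV)
    have := hconjT t⁻¹ (inv_mem ht) g hg
    rwa [inv_inv] at this
  have hfix : t * u * t⁻¹ = u :=
    mul_inv_eq_iff_eq_mul.2 (mem_centralizer_singleton_iff.1 (map_subtype_le (P : Subgroup C) ht))
  rcases four_cases h.four h.zV h.uV h.z_ne h.u_ne h.zu _ hm with e | e | e | e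
  · exact absurd (conj_eq_one_iff.1 e) h.z_ne
  · exact Or.inl e
  · exact absurd (mul_left_cancel (mul_right_cancel (e.trans hfix.symm))) h.zu
  · exact Or.inr e

theorem mem_M_of_normalizes_V (h : Hyp S V z u) {n : G}
    (hn : n * z * n⁻¹ = z) (hnV : ∀ v ∈ V, n * v * n⁻¹ ∈ (S : Subgroup G)) :
    n ∈ normalizer (gen core V : Set G) := by
  set W := gen core V
  set V' := V.map (MulAut.conj n).toMonoidHom
  have hV' : Four V' := four_map h.four n
  haveI : IsMulCommutative V' := hV'.1.1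
  refine h.W_le_of_map (Coprime.le_of_centralizer_noncyclic_le (not_isCyclic_four hV') ?_ ?_ ?_)
  · rintro _ ⟨v, hv, rfl⟩
    exact h.S_le_M (hnV v hv)
  · rw [hV'.2]
    exact (Nat.coprime_two_left.2 h.odd_W).pow_left 2
  rintro a ⟨v, hv, rfl⟩ ha1
  have hv1 : v ≠ 1 := fun e => ha1 (by rw [e]; exact map_one _)
  have hmem : (MulAut.conj n).toMonoidHom v ∈ V' := mem_map_of_mem _ hv
  refine le_trans ?_ (le_gen (θ := core) hmem ha1)
  show W ⊓ centralizer ({n * v * n⁻¹} : Set G) ≤ core (n * v * n⁻¹)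
  have hWz : W ⊓ centralizer ({z} : Set G) ≤ core z := by
    refine le_core_of_normalized (h.hcon z h.zo) h.S_le_Cz S.isPGroup' h.S_relIndex inf_le_right
      (h.odd_W.of_dvd_nat (card_dvd_of_le inf_le_left)) fun s hs y hy => ?_
    exact ⟨(mem_normalizer_iff.1 (h.S_le_M hs) y).1 hy.1,
      (centralizer ({z} : Set G)).mul_mem ((centralizer ({z} : Set G)).mul_mem (h.S_le_Cz hs) hy.2)
        ((centralizer ({z} : Set G)).inv_mem (h.S_le_Cz hs))⟩
  by_cases hvz : v = z
  · rw [hvz, hn]; exact hWz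
  -- `v` is one of the two choices of `u`
  obtain ⟨w, hw, rfl⟩ : ∃ w, Hyp S V z w ∧ v = w := by
    rcases four_cases h.four h.zV h.uV h.z_ne h.u_ne h.zu v hv with e | e | e | e
    · exact absurd e hv1
    · exact absurd e hvz
    · exact ⟨u, h, e⟩
    · exact ⟨z * u, h.swap, e⟩
  have hd : Damp z (n * v * n⁻¹) := by
    have := damp_conj hw.damp_z n
    rwa [hn] at this
  have hvo : orderOf (n * v * n⁻¹) = 2 := by rw [H26.orderOf_conj_eq, hw.uo]
  have hzv : z * (n * v * n⁻¹) = n * v * n⁻¹ * z := (h.zc _ (hnV v hv)).symm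
  have hzM : z ∈ normalizer (W : Set G) := h.S_le_M h.zmem
  refine le_core_of_damp h.zo hd inf_le_right (h.odd_W.of_dvd_nat (card_dvd_of_le inf_le_left))
    (fun y hy => ⟨(mem_normalizer_iff.1 hzM y).1 hy.1, ?_⟩) fun y hy hyz => ?_
  · refine Subgroup.mul_mem _ (Subgroup.mul_mem _ ?_ hy.2) (Subgroup.inv_mem _ ?_) <;>
      exact mem_centralizer_singleton_iff.2 hzv
  · exact h.balance h.zo hvo hzv ⟨hWz ⟨hy.1, mem_centralizer_singleton_iff.2 hyz⟩, hy.2⟩

/-- `C(z)` normalizes the closure. -/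
theorem Cz_le (h : Hyp S V z u) :
    centralizer ({z} : Set G) ≤ normalizer (gen core V : Set G) := by
  set C := centralizer ({z} : Set G)
  set π := QuotientGroup.mk' (Cfsg.pPrimeCore 2 C)
  set K := (Cfsg.pCore 2 (C ⧸ Cfsg.pPrimeCore 2 C)).comap π
  haveI : K.Normal := Normal.comap inferInstance _
  let P : Sylow 2 C := (S.isPGroup'.comap_subtype (K := C)).toSylow h.S_relIndex
  obtain ⟨E, hVE, hES, hE, hE8⟩ := h.V_eight
  have hcoreW : core z ≤ gen core V := h.core_le_W hES hE hE8 (hVE h.zV) h.z_ne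
  have hu : (⟨u, mem_centralizer_singleton_iff.2 h.zu_comm.symm⟩ : C) ∈ K :=
    mk_mem_pCore_of_sylow (h.hcon z h.zo) h.S_le_Cz S.isPGroup' h.S_relIndex h.zo h.zu_comm.symm
      h.u_cond
  have hz : (⟨z, mem_centralizer_singleton_iff.2 rfl⟩ : C) ∈ K := by
    refine Cores.isPConstrained_iff.1 (h.hcon z h.zo) (mem_centralizer_iff.2 fun r _ => ?_)
    obtain ⟨c, rfl⟩ := QuotientGroup.mk'_surjective _ r
    rw [← map_mul, ← map_mul]
    exact congrArg π (Subtype.ext (mem_centralizer_singleton_iff.1 c.2))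
  intro c hc
  have htop := frattini_inf P K
  have hcmem : (⟨c, hc⟩ : C) ∈ normalizer ((((P : Subgroup C) ⊓ K : Subgroup C)) : Set C) ⊔
      Cfsg.pPrimeCore 2 C := by
    have hKle : K ≤ normalizer ((((P : Subgroup C) ⊓ K : Subgroup C)) : Set C) ⊔ Cfsg.pPrimeCore 2 C := by
      intro k hk
      obtain ⟨s, hs, hsk⟩ := exists_lift h.S_le_Cz S.isPGroup' h.S_relIndex hk
      have hsK : s ∈ K := by show π s ∈ Cfsg.pCore 2 (C ⧸ Cfsg.pPrimeCore 2 C); rw [hsk]; exact hk
      have h1 : s⁻¹ * k ∈ Cfsg.pPrimeCore 2 C := QuotientGroup.eq.1 hsk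
      have h2 := mul_mem (mem_sup_left (T := Cfsg.pPrimeCore 2 C)
        (le_normalizer (show s ∈ (P : Subgroup C) ⊓ K from ⟨hs, hsK⟩)))
        (mem_sup_right (S := normalizer ((((P : Subgroup C) ⊓ K : Subgroup C)) : Set C)) h1)
      rwa [mul_inv_cancel_left] at h2
    exact sup_le le_sup_left hKle (htop ▸ mem_top _)
  obtain ⟨n, hn, k, hk, e⟩ := mem_sup_of_normal_right.1 hcmem
  have hkM : (k : G) ∈ normalizer (gen core V : Set G) :=
    Subgroup.le_normalizer (hcoreW ⟨k, hk, rfl⟩)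
  have hnz : (n : G) * z * (n : G)⁻¹ = z :=
    mul_inv_eq_iff_eq_mul.2 (mem_centralizer_singleton_iff.1 n.2)
  have hnM : (n : G) ∈ normalizer (gen core V : Set G) := by
    refine h.mem_M_of_normalizes_V hnz fun v hv => ?_
    have hvC : v ∈ C := h.S_le_Cz (h.le hv)
    have hvK : (⟨v, hvC⟩ : C) ∈ K := by
      rcases four_cases h.four h.zV h.uV h.z_ne h.u_ne h.zu v hv with rfl | rfl | rfl | rfl
      · exact one_mem K
      · exact hz
      · exact hu
      · exact mul_mem hz hu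
    exact ((mem_normalizer_iff.1 hn ⟨v, hvC⟩).1 ⟨h.le hv, hvK⟩).1
  have e' : (n : G) * k = c := congrArg Subtype.val e
  exact e' ▸ mul_mem hnM hkM

end Hyp

end Cfsg.Agent.H21.Dichotomy
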