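import Cfsg.Agent.Fusion.SignalizerTrivial
import Cfsg.Agent.Cores.Constrained

/-!
Odd subgroups of a 2-constrained involution centralizer that are moved little by a 2-element lie
in the core.
-/

set_option autoImplicit false
set_option linter.unusedSectionVars false

namespace Cfsg.Agent.H21.Dichotomy

open Subgroup
open Cfsg (centralizerPPrimeCore)

universe u

variable {G : Type u} [Group G] [Finite G]

local instance : Fact (Nat.Prime 2) := ⟨Nat.prime_two⟩

/-- `t` moves every odd subgroup of `C(x)` that it normalizes only by the core of `C(x)`. -/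
def Damp (t x : G) : Prop :=
  ∀ Y : Subgroup G, Y ≤ centralizer ({x} : Set G) → Odd (Nat.card Y) →
    (∀ y ∈ Y, t * y * t⁻¹ ∈ Y) → ∀ y ∈ Y, y⁻¹ * (t * y * t⁻¹) ∈ centralizerPPrimeCore 2 x

theorem mem_pCore_of_moves {H : Type u} [Group H] [Finite H]
    (hc : centralizer (Cfsg.pCore 2 H : Set H) ≤ Cfsg.pCore 2 H) {x : H} (hx : x * x = 1)
    (hxc : ∀ h : H, h * x = x * h) {h : H}
    (hh : ∀ r ∈ Cfsg.pCore 2 H, h * r * h⁻¹ = r ∨ h * r * h⁻¹ = r * x) : h ∈ Cfsg.pCore 2 H := by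
  set R := Cfsg.pCore 2 H
  have hRn : R.Normal := inferInstance
  have hconj : ∀ g r : H, g * (r * x) * g⁻¹ = g * r * g⁻¹ * x := fun g r => by
    rw [← mul_assoc, mul_assoc (g * r) x g⁻¹, ← hxc g⁻¹, ← mul_assoc]
  let K : Subgroup H :=
    { carrier := {g | ∀ r ∈ R, g * r * g⁻¹ = r ∨ g * r * g⁻¹ = r * x}
      one_mem' := fun r _ => Or.inl (by simp)
      mul_mem' := by
        intro a b ha hb r hr
        have e : a * b * r * (a * b)⁻¹ = a * (b * r * b⁻¹) * a⁻¹ := by group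
        rcases hb r hr with h1 | h1 <;> rcases ha r hr with h2 | h2
        · exact Or.inl (by rw [e, h1, h2])
        · exact Or.inr (by rw [e, h1, h2])
        · exact Or.inr (by rw [e, h1, hconj, h2])
        · exact Or.inl (by rw [e, h1, hconj, h2, mul_assoc, hx, mul_one])
      inv_mem' := by
        intro a ha r hr
        have hr' := hRn.conj_mem r hr a⁻¹
        rw [inv_inv] at hr' ⊢
        have e : a * (a⁻¹ * r * a) * a⁻¹ = r := by group
        rcases ha _ hr' with h1 | h1 <;> rw [e] at h1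
        · exact Or.inl h1.symm
        · exact Or.inr (by nth_rewrite 2 [h1]; rw [mul_assoc _ x x, hx, mul_one]) }
  have hKn : K.Normal := ⟨fun k hk g r hr => by
    have e : g * k * g⁻¹ * r * (g * k * g⁻¹)⁻¹ = g * (k * (g⁻¹ * r * g) * k⁻¹) * g⁻¹ := by group
    have hr' := hRn.conj_mem r hr g⁻¹
    rw [inv_inv] at hr'
    rcases hk _ hr' with h1 | h1
    · exact Or.inl (by rw [e, h1]; group)
    · exact Or.inr (by rw [e, h1, hconj]; group)⟩
  have hKp : IsPGroup 2 K := fun k => by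
    have h2 : (k : H) * k ∈ R := hc (mem_centralizer_iff.2 fun r hr => by
      have e : (k : H) * k * r * ((k : H) * k)⁻¹ = k * (k * r * (k : H)⁻¹) * (k : H)⁻¹ := by group
      have h3 : (k : H) * k * r * ((k : H) * k)⁻¹ = r := by
        rcases k.2 r hr with h1 | h1
        · rw [e, h1, h1]
        · rw [e, h1, hconj, h1, mul_assoc, hx, mul_one]
      exact (mul_inv_eq_iff_eq_mul.1 h3).symm)
    obtain ⟨m, hm⟩ := (Cores.pCore_isPGroup : IsPGroup 2 R) ⟨_, h2⟩
    refine ⟨m + 1, Subtype.ext ?_⟩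
    have h4 : ((k : H) * k) ^ 2 ^ m = 1 := congrArg Subtype.val hm
    rw [SubmonoidClass.coe_pow, pow_succ', pow_mul, pow_two, h4]; rfl
  exact Cores.le_pCore hKp (show h ∈ K from hh)

/-- An element of odd order of `C(x)` falling into the 2-core modulo the core lies in the core. -/
theorem mem_core_of_odd {x : G} (c : ↥(centralizer ({x} : Set G))) (ho : Odd (orderOf c))
    (hc : QuotientGroup.mk' (Cfsg.pPrimeCore 2 ↥(centralizer ({x} : Set G))) c ∈
      Cfsg.pCore 2 (↥(centralizer ({x} : Set G)) ⧸ Cfsg.pPrimeCore 2 ↥(centralizer ({x} : Set G)))) :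
    (c : G) ∈ centralizerPPrimeCore 2 x := by
  set π := QuotientGroup.mk' (Cfsg.pPrimeCore 2 ↥(centralizer ({x} : Set G)))
  obtain ⟨k, hk⟩ := IsPGroup.iff_orderOf.1 Cores.pCore_isPGroup ⟨π c, hc⟩
  rw [Subgroup.orderOf_mk] at hk
  have h1 : π c = 1 := by
    rcases Nat.eq_zero_or_pos k with rfl | hk0
    · exact orderOf_eq_one_iff.1 (by simpa using hk)
    · have h2 : 2 ∣ orderOf c := ((dvd_pow_self 2 hk0.ne').trans hk.symm.dvd).trans (orderOf_map_dvd π c)
      exact absurd (even_iff_two_dvd.2 h2) (Nat.not_even_iff_odd.2 ho)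
  exact ⟨c, (QuotientGroup.eq_one_iff c).1 h1, rfl⟩

theorem odd_orderOf {Y : Subgroup G} (hY : Odd (Nat.card Y)) {y : G} (hy : y ∈ Y) :
    Odd (orderOf y) := hY.of_dvd_nat (Subgroup.orderOf_dvd_natCard Y hy)

variable {x : G} (hcon : Cfsg.IsPConstrained 2 ↥(centralizer ({x} : Set G)))
  {T : Subgroup G} (hT : T ≤ centralizer ({x} : Set G)) (hTp : IsPGroup 2 T)
  (hTi : ¬ 2 ∣ T.relIndex (centralizer ({x} : Set G)))

include hT hTp hTi in
/-- The 2-core modulo the core lifts into a Sylow 2-subgroup of `C(x)`. -/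
theorem exists_lift {r : ↥(centralizer ({x} : Set G)) ⧸ Cfsg.pPrimeCore 2 ↥(centralizer ({x} : Set G))}
    (hr : r ∈ Cfsg.pCore 2 (↥(centralizer ({x} : Set G)) ⧸ Cfsg.pPrimeCore 2 ↥(centralizer ({x} : Set G)))) :
    ∃ s : ↥(centralizer ({x} : Set G)), (s : G) ∈ T ∧
      QuotientGroup.mk' (Cfsg.pPrimeCore 2 ↥(centralizer ({x} : Set G))) s = r := by
  set C := centralizer ({x} : Set G)
  let P : Sylow 2 C := (hTp.comap_subtype (K := C)).toSylow hTi
  have h := Cores.pCore_le_sylow (P.mapSurjective (QuotientGroup.mk'_surjective (Cfsg.pPrimeCore 2 C))) hr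
  obtain ⟨s, hs, e⟩ := h
  exact ⟨s, hs, e⟩

include hcon hT hTp hTi in
/-- An element whose conjugates under a Sylow 2-subgroup of `C(x)` differ from it only by `x`
lies in the 2-core modulo the core. -/
theorem mk_mem_pCore_of_sylow (hx : orderOf x = 2) {t : G} (htx : t * x = x * t)
    (h : ∀ s ∈ T, s * t * s⁻¹ = t ∨ s * t * s⁻¹ = t * x) :
    QuotientGroup.mk' (Cfsg.pPrimeCore 2 ↥(centralizer ({x} : Set G)))
        ⟨t, mem_centralizer_singleton_iff.2 htx⟩ ∈
      Cfsg.pCore 2 (↥(centralizer ({x} : Set G)) ⧸ Cfsg.pPrimeCore 2 ↥(centralizer ({x} : Set G))) := by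
  set C := centralizer ({x} : Set G)
  set π := QuotientGroup.mk' (Cfsg.pPrimeCore 2 C)
  have hxx : x * x = 1 := by rw [← pow_two, ← hx, pow_orderOf_eq_one]
  let x' : C := ⟨x, mem_centralizer_singleton_iff.2 rfl⟩
  let t' : C := ⟨t, mem_centralizer_singleton_iff.2 htx⟩
  have hcent : ∀ c : C, c * x' = x' * c := fun c =>
    Subtype.ext (mem_centralizer_singleton_iff.1 c.2)
  show π t' ∈ _
  refine mem_pCore_of_moves (Cores.isPConstrained_iff.1 hcon) (x := π x')
    (by rw [← map_mul, show x' * x' = 1 from Subtype.ext hxx, map_one])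
    (fun q => ?_) fun r hr => ?_
  · obtain ⟨c, rfl⟩ := QuotientGroup.mk'_surjective _ q
    rw [← map_mul, ← map_mul, hcent]
  · obtain ⟨s, hs, rfl⟩ := exists_lift hT hTp hTi hr
    have hsx : (s : G) * x = x * s := mem_centralizer_singleton_iff.1 s.2
    rcases h s hs with h1 | h1
    · refine Or.inl ?_
      rw [← map_inv, ← map_mul, ← map_mul]
      congr 1
      refine Subtype.ext ?_
      show t * s * t⁻¹ = s
      have h2 : (s : G) * t = t * s := mul_inv_eq_iff_eq_mul.1 h1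
      rw [← h2, mul_inv_cancel_right]
    · refine Or.inr ?_
      rw [← map_inv, ← map_mul, ← map_mul, ← map_mul]
      congr 1
      refine Subtype.ext ?_
      show t * s * t⁻¹ = s * x
      have h2 : (s : G) * t = t * (s * x) := by
        rw [mul_inv_eq_iff_eq_mul.1 h1, mul_assoc, hsx]
      calc t * s * t⁻¹ = t * (s * x * x) * t⁻¹ := by rw [mul_assoc (s : G), hxx, mul_one]
        _ = (t * (s * x)) * (x * t⁻¹) := by group
        _ = s * (t * x) * t⁻¹ := by rw [← h2]; group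
        _ = s * x := by rw [htx]; group

include hcon hT hTp hTi in
/-- Such an element is damped. -/
theorem damp_of_sylow (hx : orderOf x = 2) {t : G} (htx : t * x = x * t)
    (h : ∀ s ∈ T, s * t * s⁻¹ = t ∨ s * t * s⁻¹ = t * x) : Damp t x := by
  set C := centralizer ({x} : Set G)
  set π := QuotientGroup.mk' (Cfsg.pPrimeCore 2 C)
  let t' : C := ⟨t, mem_centralizer_singleton_iff.2 htx⟩
  have ht : π t' ∈ Cfsg.pCore 2 (C ⧸ Cfsg.pPrimeCore 2 C) :=
    mk_mem_pCore_of_sylow hcon hT hTp hTi hx htx h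
  intro Y hYC hYo hYt y hy
  have hmem : y⁻¹ * (t * y * t⁻¹) ∈ Y := mul_mem (inv_mem hy) (hYt y hy)
  refine mem_core_of_odd (⟨_, hYC hmem⟩ : C) ?_ ?_
  · rw [← Subgroup.orderOf_coe]
    exact odd_orderOf hYo hmem
  · have e : (⟨_, hYC hmem⟩ : C) = ((⟨y, hYC hy⟩ : C)⁻¹ * t' * (⟨y, hYC hy⟩ : C)) * t'⁻¹ :=
      Subtype.ext (by show y⁻¹ * (t * y * t⁻¹) = y⁻¹ * t * y * t⁻¹; group)
    rw [e, map_mul, map_inv, map_mul, map_mul, map_inv]
    refine mul_mem ?_ (inv_mem ht)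
    have h3 := (inferInstance : (Cfsg.pCore 2 (C ⧸ Cfsg.pPrimeCore 2 C)).Normal).conj_mem _ ht
      (π ⟨y, hYC hy⟩)⁻¹
    rwa [inv_inv] at h3

include hcon hT hTp hTi in
/-- An odd subgroup of `C(x)` normalized by a Sylow 2-subgroup of `C(x)` lies in the core. -/
theorem le_core_of_normalized {Y : Subgroup G} (hYC : Y ≤ centralizer ({x} : Set G))
    (hYo : Odd (Nat.card Y)) (hn : ∀ s ∈ T, ∀ y ∈ Y, s * y * s⁻¹ ∈ Y) :
    Y ≤ centralizerPPrimeCore 2 x := by
  set C := centralizer ({x} : Set G)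
  set π := QuotientGroup.mk' (Cfsg.pPrimeCore 2 C)
  intro y hy
  refine mem_core_of_odd (⟨y, hYC hy⟩ : C) (by rw [← Subgroup.orderOf_coe]; exact odd_orderOf hYo hy) ?_
  refine Cores.isPConstrained_iff.1 hcon (mem_centralizer_iff.2 fun r hr => ?_)
  obtain ⟨s, hs, rfl⟩ := exists_lift hT hTp hTi hr
  have hmem : y⁻¹ * ((s : G) * y * (s : G)⁻¹) ∈ Y := mul_mem (inv_mem hy) (hn s hs y hy)
  have h1 : π ⟨_, hYC hmem⟩ ∈ Cfsg.pCore 2 (C ⧸ Cfsg.pPrimeCore 2 C) := by
    have e : (⟨_, hYC hmem⟩ : C) = ((⟨y, hYC hy⟩ : C)⁻¹ * s * (⟨y, hYC hy⟩ : C)) * s⁻¹ :=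
      Subtype.ext (by show y⁻¹ * (s * y * (s : G)⁻¹) = y⁻¹ * s * y * (s : G)⁻¹; group)
    rw [e, map_mul, map_inv, map_mul, map_mul, map_inv]
    refine mul_mem ?_ (inv_mem hr)
    have h3 := (inferInstance : (Cfsg.pCore 2 (C ⧸ Cfsg.pPrimeCore 2 C)).Normal).conj_mem _ hr
      (π ⟨y, hYC hy⟩)⁻¹
    rwa [inv_inv] at h3
  obtain ⟨c, hc, he⟩ := mem_core_of_odd _ (by rw [← Subgroup.orderOf_coe]; exact odd_orderOf hYo hmem) h1
  have h2 : π ⟨_, hYC hmem⟩ = 1 := by
    rw [← show c = ⟨_, hYC hmem⟩ from Subtype.ext he]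
    exact (QuotientGroup.eq_one_iff c).2 hc
  rw [show (⟨_, hYC hmem⟩ : C) = (⟨y, hYC hy⟩ : C)⁻¹ * (s * ⟨y, hYC hy⟩ * s⁻¹) from rfl, map_mul,
    map_inv, inv_mul_eq_one, map_mul, map_mul, map_inv] at h2
  exact eq_mul_inv_iff_mul_eq.1 h2 |>.symm

omit x hcon hT hTp hTi in
/-- A damped involution leaves no room outside the core. -/
theorem le_core_of_damp {t x : G} (ht : orderOf t = 2) (hd : Damp t x) {Y : Subgroup G}
    (hYC : Y ≤ centralizer ({x} : Set G)) (hYo : Odd (Nat.card Y))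
    (hYt : ∀ y ∈ Y, t * y * t⁻¹ ∈ Y)
    (hfix : ∀ y ∈ Y, y * t = t * y → y ∈ centralizerPPrimeCore 2 x) :
    Y ≤ centralizerPPrimeCore 2 x := by
  intro y hy
  have htt : t * t = 1 := by rw [← pow_two, ← ht, pow_orderOf_eq_one]
  have hti : t⁻¹ = t := inv_eq_of_mul_eq_one_right htt
  set c := y⁻¹ * (t * y * t⁻¹) with hc
  have hcY : c ∈ Y := mul_mem (inv_mem hy) (hYt y hy)
  have hcθ : c ∈ centralizerPPrimeCore 2 x := hd Y hYC hYo hYt y hy
  obtain ⟨k, hk⟩ := odd_orderOf hYo hcY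
  set d := c ^ (k + 1) with hd'
  have hdd : d * d = c := by
    rw [hd', ← pow_add, show k + 1 + (k + 1) = orderOf c + 1 by omega, pow_succ, pow_orderOf_eq_one,
      one_mul]
  have htc : t * c * t⁻¹ = c⁻¹ := by
    rw [hc, hti]
    simp only [mul_inv_rev, hti, inv_inv, mul_assoc, htt, mul_one]
  have htd : t * d * t⁻¹ = d⁻¹ := by rw [hd', ← conj_pow, htc, inv_pow]
  have hyc : t * y * t⁻¹ = y * c := by rw [hc, mul_inv_cancel_left]
  have hfx : t * (y * d) * t⁻¹ = y * d := by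
    rw [show t * (y * d) * t⁻¹ = (t * y * t⁻¹) * (t * d * t⁻¹) by group, hyc, htd, ← hdd]
    group
  have hdθ : d ∈ centralizerPPrimeCore 2 x := pow_mem hcθ _
  have h := hfix _ (mul_mem hy (pow_mem hcY _)) (mul_inv_eq_iff_eq_mul.1 hfx).symm
  exact (Subgroup.mul_mem_cancel_right _ hdθ).1 h

omit x hcon hT hTp hTi in
theorem damp_conj {t x : G} (h : Damp t x) (g : G) : Damp (g * t * g⁻¹) (g * x * g⁻¹) := by
  intro Y hYC hYo hYt y hy
  set Y' := Y.map (MulAut.conj g⁻¹).toMonoidHom with hY'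
  have hm : ∀ v, v ∈ Y' ↔ g * v * g⁻¹ ∈ Y := by
    intro v
    constructor
    · rintro ⟨w, hw, rfl⟩
      show g * (g⁻¹ * w * g⁻¹⁻¹) * g⁻¹ ∈ Y
      simpa [mul_assoc] using hw
    · exact fun hv => ⟨_, hv, by simp [mul_assoc]⟩
  have h1 := h Y' (fun v hv => mem_centralizer_singleton_iff.2 (by
      have := mem_centralizer_singleton_iff.1 (hYC ((hm v).1 hv))
      calc v * x = g⁻¹ * (g * v * g⁻¹ * (g * x * g⁻¹)) * g := by group
        _ = g⁻¹ * (g * x * g⁻¹ * (g * v * g⁻¹)) * g := by rw [this]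
        _ = x * v := by group))
    (by rw [hY', card_map_of_injective (MulAut.conj g⁻¹).injective]; exact hYo)
    (fun v hv => (hm _).2 (by
      have := hYt _ ((hm v).1 hv)
      convert this using 1; group))
    (g⁻¹ * y * g) ((hm _).2 (by simpa [mul_assoc] using hy))
  rw [Fusion.Signalizer.centralizerPPrimeCore_conj]
  refine ⟨_, h1, ?_⟩
  simp [mul_assoc]

end Cfsg.Agent.H21.Dichotomy
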