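import Cfsg.Agent.H21.Dichotomy.Central
import Cfsg.Agent.Fusion.Alperin
import Cfsg.Agent.PGroups.MaxClass

/-!
`N(W)` controls the fusion in the Sylow 2-subgroup and contains the centralizers of all its
involutions.
-/

set_option autoImplicit false
set_option linter.unusedSectionVars false

namespace Cfsg.Agent.H21.Dichotomy

open Subgroup Cfsg.Agent.Fusion.Signalizer Cfsg.Agent.H70.Balanced
open Cfsg (centralizerPPrimeCore)

universe u

variable {G : Type u} [Group G] [Finite G]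

local instance : Fact (Nat.Prime 2) := ⟨Nat.prime_two⟩

/-- The involutions of `Q` central in `Q`. -/
def omegaCenter (Q : Subgroup G) : Subgroup G where
  carrier := {g | g ∈ Q ∧ g * g = 1 ∧ ∀ q ∈ Q, g * q = q * g}
  one_mem' := ⟨one_mem _, one_mul 1, fun q _ => by simp⟩
  mul_mem' := fun {a b} ha hb => ⟨mul_mem ha.1 hb.1, by
      calc a * b * (a * b) = a * (b * a) * b := by group
        _ = a * (a * b) * b := by rw [hb.2.2 a ha.1]
        _ = a * a * (b * b) := by group
        _ = 1 := by rw [ha.2.1, hb.2.1, one_mul],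
    fun q hq => by rw [mul_assoc, hb.2.2 q hq, ← mul_assoc, ha.2.2 q hq, mul_assoc]⟩
  inv_mem' := fun {a} ha => ⟨inv_mem ha.1, by rw [← mul_inv_rev, ha.2.1, inv_one],
    fun q hq => ((show Commute a q from ha.2.2 q hq).inv_left).eq⟩

theorem omegaCenter_elem (Q : Subgroup G) : Cfsg.IsElementaryAbelian 2 (omegaCenter Q) :=
  ⟨⟨⟨fun a b => Subtype.ext (a.2.2.2 b b.2.1)⟩⟩, fun a ha => by rw [pow_two]; exact ha.2.1⟩

theorem omegaCenter_conj {Q : Subgroup G} {n : G} (hn : n ∈ normalizer (Q : Set G)) {g : G}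
    (hg : g ∈ omegaCenter Q) : n * g * n⁻¹ ∈ omegaCenter Q := by
  refine ⟨(mem_normalizer_iff.1 hn g).1 hg.1, ?_, fun q hq => ?_⟩
  · calc n * g * n⁻¹ * (n * g * n⁻¹) = n * (g * g) * n⁻¹ := by group
      _ = 1 := by rw [hg.2.1]; group
  · have hq' : n⁻¹ * q * n ∈ Q := by
      rw [mem_normalizer_iff.1 hn]
      simpa [mul_assoc] using hq
    calc n * g * n⁻¹ * q = n * (g * (n⁻¹ * q * n)) * n⁻¹ := by group
      _ = n * (n⁻¹ * q * n * g) * n⁻¹ := by rw [hg.2.2 _ hq']
      _ = q * (n * g * n⁻¹) := by group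

/-- A 2-group with a self-centralizing four-group has no elementary subgroup of order 8. -/
theorem card_le_four_of_self_centralizing {X : Type u} [Group X] [Finite X] (hX : IsPGroup 2 X)
    {A : Subgroup X} (hA : Nat.card A = 4) (hCA : centralizer (A : Set X) = A)
    (D : Subgroup X) (hD : ∀ d ∈ D, d ^ 2 = 1) : Nat.card D ≤ 4 := by
  obtain ⟨n, hn⟩ := IsPGroup.iff_card.1 hX
  by_cases h3 : n < 3
  · have h1 := Subgroup.card_le_of_le (le_top : D ≤ ⊤)
    rw [card_top, hn] at h1
    exact h1.trans (Nat.pow_le_pow_right two_pos (by omega : n ≤ 2))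
  push Not at h3
  have hc := PGroups.nilpotencyClass_of_self_centralizing (p := 2) n X hn A (by rw [hA]; norm_num) hCA
  obtain ⟨c, hco⟩ := PGroups.exists_cyclic_index_two n X h3 hn hc
  have hidx : (zpowers c).index = 2 := by
    have h1 := (zpowers c).card_mul_index
    rw [Nat.card_zpowers, hco, hn, show n = (n - 1) + 1 by omega, pow_succ] at h1
    rw [show n - 1 + 1 - 1 = n - 1 by omega] at h1
    exact Nat.eq_of_mul_eq_mul_left (by positivity) h1
  have h1 : (zpowers c).relIndex D ≤ 2 := by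
    have h := Subgroup.relIndex_le_of_le_right (H := zpowers c) (le_top : D ≤ ⊤) (by simp [hidx])
    rwa [Subgroup.relIndex_top_right, hidx] at h
  have h2 := ((zpowers c).subgroupOf D).card_mul_index
  classical
  have h4 : Nat.card ↥((zpowers c).subgroupOf D) ≤ 2 := by
    haveI : Fintype (zpowers c) := Fintype.ofFinite _
    let i : ↥((zpowers c).subgroupOf D) → {a : zpowers c // a ^ 2 = 1} := fun a =>
      ⟨⟨((a : D) : X), a.2⟩, Subtype.ext (hD _ a.1.2)⟩
    have hi : Function.Injective i := fun a b h =>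
      Subtype.ext (Subtype.ext (congrArg (fun v : {a : zpowers c // a ^ 2 = 1} => (v.1 : X)) h))
    refine (Nat.card_le_card_of_injective i hi).trans ?_
    rw [Nat.card_eq_fintype_card, Fintype.card_subtype]
    exact IsCyclic.card_pow_eq_one_le two_pos
  rw [← h2]
  exact Nat.mul_le_mul h4 h1

namespace Hyp

variable {S : Sylow 2 G} {V : Subgroup G} {z u : G}

theorem mem_M_of_omega (h : Hyp S V z u) {Q : Subgroup G} {n : G}
    (hn : ∀ g ∈ omegaCenter Q, n * g * n⁻¹ ∈ omegaCenter Q) {D : Subgroup G}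
    (hQD : omegaCenter Q ≤ D) (hDS : D ≤ (S : Subgroup G)) (hD : Cfsg.IsElementaryAbelian 2 D)
    (hD8 : 8 ≤ Nat.card D) (h4 : 4 ≤ Nat.card ↥(omegaCenter Q)) :
    n ∈ normalizer (gen core V : Set G) := by
  obtain ⟨U, hUQ, hU⟩ := exists_four_le (omegaCenter_elem Q) h4
  refine h.mem_M_of_gen hU (h.gen_four hU (hUQ.trans hQD) hDS hD hD8)
    (h.gen_four (four_map hU n) ?_ hDS hD hD8)
  rintro _ ⟨x, hx, rfl⟩
  exact hQD (hn x (hUQ hx))

/-- Normalizers of self-centralizing subgroups of `S` normalize the closure. -/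
theorem normalizer_centric (h : Hyp S V z u) {Q : Subgroup G} (hQS : Q ≤ (S : Subgroup G))
    (hC : ∀ g ∈ (S : Subgroup G), (∀ q ∈ Q, g * q = q * g) → g ∈ Q) {n : G}
    (hn : n ∈ normalizer (Q : Set G)) : n ∈ normalizer (gen core V : Set G) := by
  have hzQ : z ∈ Q := hC z h.zmem fun q hq => (h.zc q (hQS hq)).symm
  have hzZ : z ∈ omegaCenter Q := ⟨hzQ, h.zz, fun q hq => (h.zc q (hQS hq)).symm⟩
  have hZS : omegaCenter Q ≤ (S : Subgroup G) := fun g hg => hQS hg.1
  have hconj := fun g (hg : g ∈ omegaCenter Q) => omegaCenter_conj hn hg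
  obtain ⟨k, hk⟩ := IsPGroup.iff_card.1 (S.isPGroup'.to_le hZS)
  by_cases hD : 4 ≤ Nat.card ↥(omegaCenter Q) ∧ ∃ D : Subgroup G, omegaCenter Q ≤ D ∧
      D ≤ (S : Subgroup G) ∧ Cfsg.IsElementaryAbelian 2 D ∧ 8 ≤ Nat.card D
  · obtain ⟨h4, D, h1, h2, h3, h8⟩ := hD
    exact h.mem_M_of_omega hconj h1 h2 h3 h8 h4
  suffices hnz : n * z * n⁻¹ = z from
    h.Cz_le (mem_centralizer_singleton_iff.2 (mul_inv_eq_iff_eq_mul.1 hnz))
  by_cases h4 : Nat.card ↥(omegaCenter Q) < 4
  · have he : zpowers z = omegaCenter Q := by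
      refine eq_of_le_of_card_ge (zpowers_le.2 hzZ) ?_
      rw [Nat.card_zpowers, h.zo, hk]
      rw [hk] at h4
      calc 2 ^ k ≤ 2 ^ 1 := Nat.pow_le_pow_right two_pos (by
            by_contra hk2
            have : 2 ^ 2 ≤ 2 ^ k := Nat.pow_le_pow_right two_pos (by omega)
            omega)
        _ = 2 := by norm_num
    have hm : n * z * n⁻¹ ∈ zpowers z := he.symm ▸ hconj z hzZ
    obtain ⟨i, hi⟩ := mem_zpowers_iff.1 hm
    have hi2 : n * z * n⁻¹ = 1 ∨ n * z * n⁻¹ = z := by
      rw [← hi]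
      rcases Int.even_or_odd i with ⟨j, rfl⟩ | ⟨j, rfl⟩
      · exact Or.inl (by rw [← two_mul, zpow_mul, zpow_two, h.zz, one_zpow])
      · exact Or.inr (by rw [zpow_add_one, zpow_mul, zpow_two, h.zz, one_zpow, one_mul])
    exact hi2.resolve_left fun e => h.z_ne (conj_eq_one_iff.1 e)
  push Not at h4
  have hnoD : ∀ D : Subgroup G, omegaCenter Q ≤ D → D ≤ (S : Subgroup G) →
      Cfsg.IsElementaryAbelian 2 D → ¬ 8 ≤ Nat.card D := fun D h1 h2 h3 h8 => hD ⟨h4, D, h1, h2, h3, h8⟩
  have hZ4 : Four (omegaCenter Q) := by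
    refine ⟨omegaCenter_elem Q, ?_⟩
    have h8 := hnoD _ le_rfl hZS (omegaCenter_elem Q)
    rw [hk] at h4 h8 ⊢
    have : k = 2 := by
      have h1 : k < 3 := by
        by_contra hh
        exact h8 ((show (8 : ℕ) = 2 ^ 3 by norm_num).le.trans (Nat.pow_le_pow_right two_pos (by omega)))
      by_contra hh
      have h2 : 2 ^ k ≤ 2 ^ 1 := Nat.pow_le_pow_right two_pos (by omega)
      omega
    rw [this]; norm_num
  obtain ⟨y, hy, hyu⟩ : ∃ y ∈ omegaCenter Q, y ∉ centralizer ({u} : Set G) := by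
    by_contra hall
    push Not at hall
    rcases elem_four_or_eight hZ4 h.four (fun a ha b hb => h.centV (hZS ha) (hall a ha) b hb)
      with e | ⟨hs, h8⟩
    · obtain ⟨E, hVE, hES, hE, hE8⟩ := h.V_eight
      exact hnoD E (e ▸ hVE) hES hE hE8
    · exact hnoD _ le_sup_left (sup_le hZS h.le) hs h8
  have hy1 : y ≠ 1 := fun e => hyu (e ▸ one_mem _)
  have hzy : z ≠ y := fun e => hyu (e ▸ mem_centralizer_singleton_iff.2 h.zu_comm)
  have hyy : y * y = 1 := hy.2.1
  have hinv : ∀ r ∈ (S : Subgroup G), r * u = u * r → r * y = y * r → orderOf r = 2 → r = z := by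
    intro r hrS hru hry hro
    by_cases hrZ : r ∈ omegaCenter Q
    · rcases four_cases hZ4 hzZ hy h.z_ne hy1 hzy r hrZ with e | e | e | e
      · rw [e, orderOf_one] at hro; omega
      · exact e
      · exact absurd (mem_centralizer_singleton_iff.2 (e ▸ hru)) hyu
      · refine absurd (?_ : y ∈ centralizer ({u} : Set G)) hyu
        rw [show y = z * r by rw [e, ← mul_assoc, h.zz, one_mul]]
        exact mul_mem (mem_centralizer_singleton_iff.2 h.zu_comm) (mem_centralizer_singleton_iff.2 hru)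
    · exfalso
      have hr2 : r ^ 2 = 1 := by rw [← hro, pow_orderOf_eq_one]
      have hcr : ∀ a ∈ omegaCenter Q, r * a = a * r := by
        intro a ha
        rcases four_cases hZ4 hzZ hy h.z_ne hy1 hzy a ha with rfl | rfl | rfl | rfl
        · simp
        · exact h.zc r hrS
        · exact hry
        · rw [← mul_assoc, h.zc r hrS, mul_assoc, hry, ← mul_assoc]
      have hs := elementary_sup (omegaCenter_elem Q) (elementary_zpowers hr2) fun a ha b hb => by
        obtain ⟨i, rfl⟩ := mem_zpowers_iff.1 hb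
        exact ((show Commute r a from hcr a ha).zpow_left i).eq.symm
      refine hnoD _ le_sup_left (sup_le hZS (zpowers_le.2 hrS)) hs ?_
      have h1 := card_two_le_of_lt (H36.NilPPrime.elem_isPGroup hs)
        (lt_of_le_of_ne le_sup_left fun e => hrZ (e.symm ▸ mem_sup_right (mem_zpowers r)))
      rw [hZ4.2] at h1
      omega
  have hpow : ∀ q ∈ Q, q * q ≠ 1 → q ^ (orderOf q / 2) = z := by
    intro q hq hq2
    obtain ⟨j, hj⟩ := IsPGroup.iff_orderOf.1 (S.isPGroup'.to_le hQS) ⟨q, hq⟩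
    rw [Subgroup.orderOf_mk] at hj
    have hj2 : 2 ≤ j := by
      by_contra hh
      apply hq2
      have h2 : orderOf q ∣ 2 := hj ▸ (pow_dvd_pow 2 (show j ≤ 1 by omega)).trans (pow_one 2).dvd
      rw [← pow_two]
      exact orderOf_dvd_iff_pow_eq_one.1 h2
    have e2 : orderOf q / 2 = 2 * 2 ^ (j - 2) := by
      rw [hj, show j = j - 2 + 1 + 1 by omega, pow_succ, Nat.mul_div_cancel _ two_pos, pow_succ',
        show j - 2 + 1 + 1 - 2 = j - 2 by omega]
    have hqy : q * y = y * q := (hy.2.2 q hq).symm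
    have hq2u : q * q ∈ centralizer ({u} : Set G) := by
      rcases h.index_two (hQS hq) (hZS hy) hyu with h1 | h1
      · exact mul_mem h1 h1
      · have e : q * y * (q * y) = q * q := by
          calc q * y * (q * y) = q * (y * q) * y := by group
            _ = q * (q * y) * y := by rw [hqy]
            _ = q * q * (y * y) := by group
            _ = q * q := by rw [hyy, mul_one]
        exact e ▸ mul_mem h1 h1
    refine hinv _ (pow_mem (hQS hq) _) ?_ ((show Commute q y from hqy).pow_left _).eq ?_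
    · rw [e2, pow_mul, pow_two]
      exact mem_centralizer_singleton_iff.1 (pow_mem hq2u _)
    · rw [orderOf_pow_of_dvd (by rw [e2]; positivity) (Nat.div_dvd_of_dvd
        (hj ▸ dvd_pow_self 2 (by omega : j ≠ 0))), Nat.div_div_self
        (hj ▸ dvd_pow_self 2 (by omega : j ≠ 0)) (orderOf_pos q).ne']
  by_cases hq : ∃ q ∈ Q, q * q ≠ 1
  · obtain ⟨q, hq, hq2⟩ := hq
    have h1 := hpow (n * q * n⁻¹) ((mem_normalizer_iff.1 hn q).1 hq) fun e => hq2 (by
      have e' : n * (q * q) * n⁻¹ = 1 := by rw [← e]; group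
      exact conj_eq_one_iff.1 e')
    rwa [H26.orderOf_conj_eq, conj_pow, hpow q hq hq2] at h1
  push Not at hq
  exfalso
  have hQZ : ∀ q ∈ Q, q ∈ omegaCenter Q := fun q hqQ => ⟨hqQ, hq q hqQ, fun r hr => by
    have e : ∀ w ∈ Q, w⁻¹ = w := fun w hw => inv_eq_of_mul_eq_one_right (hq w hw)
    rw [← e (q * r) (mul_mem hqQ hr), mul_inv_rev, e q hqQ, e r hr]⟩
  obtain ⟨A, hAS, hA, hA8⟩ := h.eight
  have hcA := card_le_four_of_self_centralizing (X := ↥(S : Subgroup G)) S.isPGroup'
    (A := (omegaCenter Q).subgroupOf (S : Subgroup G))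
    (by rw [Nat.card_congr (subgroupOfEquivOfLe hZS).toEquiv, hZ4.2]) (by
      refine le_antisymm (fun g hg => ?_) (fun g hg => mem_centralizer_iff.2 fun a ha =>
        Subtype.ext (H36.NilPPrime.elem_comm (omegaCenter_elem Q) ha hg))
      refine hQZ _ (hC g g.2 fun q hqQ => ?_)
      exact (congrArg Subtype.val
        (mem_centralizer_iff.1 hg ⟨q, hQS hqQ⟩ (hQZ q hqQ))).symm)
    (A.subgroupOf (S : Subgroup G)) (fun d hd => Subtype.ext (hA.2 _ hd))
  rw [Nat.card_congr (subgroupOfEquivOfLe hAS).toEquiv] at hcA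
  omega

/-- `N(W)` controls the fusion in `S`. -/
theorem conn (h : Hyp S V z u) {A : Set G} {g : G} (hc : Fusion.Conn S A g) :
    ∃ m ∈ normalizer (gen core V : Set G), ∀ a ∈ A, m⁻¹ * a * m = g⁻¹ * a * g := by
  induction hc with
  | refl A => exact ⟨1, one_mem _, fun a _ => rfl⟩
  | step A g x P' hP' hA hx _ ih =>
    obtain ⟨m', hm', e'⟩ := ih
    set R := (S : Subgroup G) ⊓ (P' : Subgroup G) with hR
    set N := normalizer (R : Set G) with hN
    set K := (centralizer (R : Set G)).subgroupOf N with hK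
    have hKn : K.Normal := ⟨fun k hk w => by
      rw [hK, mem_subgroupOf] at hk ⊢
      refine mem_centralizer_iff.2 fun r hr => ?_
      have hr' : (w : G)⁻¹ * r * w ∈ R := by
        rw [mem_normalizer_iff.1 w.2]
        simpa [mul_assoc] using hr
      have := mem_centralizer_iff.1 hk _ hr'
      simp only [Subgroup.coe_mul, Subgroup.coe_inv]
      calc r * ((w : G) * k * (w : G)⁻¹) = (w : G) * ((w : G)⁻¹ * r * w * k) * (w : G)⁻¹ := by group
        _ = (w : G) * (k * ((w : G)⁻¹ * r * w)) * (w : G)⁻¹ := by rw [this]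
        _ = (w : G) * k * (w : G)⁻¹ * r := by group⟩
    have htame : ¬ 2 ∣ (S : Subgroup G).relIndex N := by
      have := hP'.1
      rwa [inf_relIndex_right] at this
    let P : Sylow 2 N := (S.isPGroup'.comap_subtype (K := N)).toSylow htame
    have htop := frattini_inf P K
    have hmem : (⟨x, hx⟩ : N)⁻¹ ∈ normalizer ((((P : Subgroup N) ⊓ K : Subgroup N)) : Set N) ⊔ K :=
      htop ▸ mem_top _
    obtain ⟨n, hn, k, hk, e⟩ := mem_sup_of_normal_right.1 hmem
    set Q' := R ⊔ ((S : Subgroup G) ⊓ centralizer (R : Set G)) with hQ'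
    have hnQ' : (n : G) ∈ normalizer (Q' : Set G) := by
      rw [H39.mem_normalizer_iff_map_conj, hQ', Subgroup.map_sup, H39.mem_normalizer_iff_map_conj.1 n.2]
      congr 1
      refine eq_of_le_of_card_ge ?_ (by rw [H39.card_map_conj])
      rintro _ ⟨w, hw, rfl⟩
      have hwN : w ∈ N := mem_normalizer_iff.2 fun r => by
        constructor <;> intro hr
        · rwa [← mem_centralizer_iff.1 hw.2 r hr, mul_inv_cancel_right]
        · have := mem_centralizer_iff.1 hw.2 _ hr
          have e2 : w * r * w⁻¹ = r := by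
            have e3 : w⁻¹ * (w * r * w⁻¹ * w) = w⁻¹ * (w * (w * r * w⁻¹)) := by rw [this]
            simp only [inv_mul_cancel_right, inv_mul_cancel_left] at e3
            exact e3.symm
          rwa [e2] at hr
      have := (mem_normalizer_iff.1 hn ⟨w, hwN⟩).1 ⟨hw.1, hw.2⟩
      exact ⟨this.1, this.2⟩
    have hnM : (n : G) ∈ normalizer (gen core V : Set G) := by
      refine h.normalizer_centric (sup_le inf_le_left inf_le_left) (fun w hw hc => ?_) hnQ'
      exact mem_sup_right ⟨hw, mem_centralizer_iff.2 fun r hr => (hc r (mem_sup_left hr)).symm⟩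
    refine ⟨(n : G)⁻¹ * m', mul_mem (inv_mem hnM) hm', fun a ha => ?_⟩
    have hx' : x⁻¹ = (n : G) * k := congrArg Subtype.val e.symm
    have hka : (k : G) * a = a * k := (mem_centralizer_iff.1 hk a (hA ha)).symm
    have h1 := e' (x⁻¹ * a * x) ⟨a, ha, rfl⟩
    calc ((n : G)⁻¹ * m')⁻¹ * a * ((n : G)⁻¹ * m') = m'⁻¹ * ((n : G) * a * (n : G)⁻¹) * m' := by group
      _ = m'⁻¹ * (x⁻¹ * a * x) * m' := by
          congr 2
          rw [show x = (x⁻¹)⁻¹ from (inv_inv x).symm, inv_inv x⁻¹, hx']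
          calc (n : G) * a * (n : G)⁻¹ = (n : G) * (a * k) * (k : G)⁻¹ * (n : G)⁻¹ := by group
            _ = (n : G) * (k * a) * (k : G)⁻¹ * (n : G)⁻¹ := by rw [hka]
            _ = _ := by group
      _ = (x * g)⁻¹ * a * (x * g) := by rw [h1]; group

/-- The centralizer of an involution with Sylow 2-subgroup `S ⊓ C(x)` normalizes the closure. -/
theorem centralizer_le_of_extremal (h : Hyp S V z u) {x : G} (hxS : x ∈ (S : Subgroup G))
    (hx : orderOf x = 2)
    (hext : ¬ 2 ∣ ((S : Subgroup G) ⊓ centralizer ({x} : Set G)).relIndex (centralizer ({x} : Set G))) :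
    centralizer ({x} : Set G) ≤ normalizer (gen core V : Set G) := by
  by_cases hxz : x = z
  · exact hxz ▸ h.Cz_le
  set C := centralizer ({x} : Set G)
  set T := (S : Subgroup G) ⊓ C with hT
  have hx2 : x ^ 2 = 1 := by rw [← hx, pow_orderOf_eq_one]
  have hx1 : x ≠ 1 := fun e => by rw [e, orderOf_one] at hx; omega
  obtain ⟨A, hAC, hA, hA8⟩ := exists_elementary_of_not_pRankLE (h.good x hx).2
  let P : Sylow 2 C := ((S.isPGroup'.to_le (inf_le_left : T ≤ S)).comap_subtype (K := C)).toSylow hext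
  obtain ⟨g, hg⟩ := H39.exists_conj_le_sylow ((H36.NilPPrime.elem_isPGroup hA).comap_subtype (K := C)) P
  set D := A.map (MulAut.conj (g : G)).toMonoidHom with hD
  have hDT : D ≤ T := by
    rintro _ ⟨a, ha, rfl⟩
    exact hg ⟨a, hAC ha⟩ ha
  have hD8 : 8 ≤ Nat.card D := by rw [hD, H39.card_map_conj]; simpa using hA8
  have hcz : ∀ a ∈ zpowers x ⊔ zpowers z, ∀ d ∈ T, d * a = a * d := by
    intro a ha d hd
    have hmem : zpowers x ⊔ zpowers z ≤ centralizer ({d} : Set G) := sup_le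
      (zpowers_le.2 (mem_centralizer_singleton_iff.2 (mem_centralizer_singleton_iff.1 hd.2).symm))
      (zpowers_le.2 (mem_centralizer_singleton_iff.2 (h.zc d hd.1).symm))
    exact (mem_centralizer_singleton_iff.1 (hmem ha)).symm
  have hxzE : Cfsg.IsElementaryAbelian 2 (zpowers x ⊔ zpowers z : Subgroup G) :=
    elementary_sup (elementary_zpowers hx2) (elementary_zpowers (by rw [pow_two, h.zz])) fun a ha b hb => by
      obtain ⟨i, rfl⟩ := mem_zpowers_iff.1 ha
      obtain ⟨j, rfl⟩ := mem_zpowers_iff.1 hb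
      exact ((show Commute x z from h.zc x hxS).zpow_zpow i j).eq
  have hD' : Cfsg.IsElementaryAbelian 2 (D ⊔ (zpowers x ⊔ zpowers z) : Subgroup G) :=
    elementary_sup (H36.NilPPrime.elem_map hA _) hxzE fun d hd a ha => hcz a ha d (hDT hd)
  have hD'S : D ⊔ (zpowers x ⊔ zpowers z) ≤ (S : Subgroup G) :=
    sup_le (hDT.trans inf_le_left) (sup_le (zpowers_le.2 hxS) (zpowers_le.2 h.zmem))
  have hD'8 : 8 ≤ Nat.card ↥(D ⊔ (zpowers x ⊔ zpowers z)) := hD8.trans (card_le_of_le le_sup_left)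
  have hθ : core x ≤ gen core V :=
    h.core_le_W hD'S hD' hD'8 (mem_sup_right (mem_sup_left (mem_zpowers x))) hx1
  set π := QuotientGroup.mk' (Cfsg.pPrimeCore 2 C)
  set K := (Cfsg.pCore 2 (C ⧸ Cfsg.pPrimeCore 2 C)).comap π
  haveI : K.Normal := Normal.comap inferInstance _
  set Q := ((P : Subgroup C) ⊓ K).map C.subtype with hQ
  have hTC : T ≤ C := inf_le_right
  have hTp : IsPGroup 2 T := S.isPGroup'.to_le inf_le_left
  have hcent : ∀ (w : G) (hwT : w ∈ T), (∀ d ∈ T, d * w = w * d) → w ∈ Q := by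
    intro w hwT hw
    refine ⟨⟨w, hTC hwT⟩, ⟨hwT, ?_⟩, rfl⟩
    refine Cores.isPConstrained_iff.1 (h.hcon x hx) (mem_centralizer_iff.2 fun r hr => ?_)
    obtain ⟨s, hs, rfl⟩ := exists_lift hTC hTp hext hr
    rw [← map_mul, ← map_mul]
    exact congrArg π (Subtype.ext (hw s hs))
  have hQS : Q ≤ (S : Subgroup G) := by
    rintro _ ⟨q, hq, rfl⟩
    exact (show (q : G) ∈ T from hq.1).1
  have hQT : Q ≤ T := by
    rintro _ ⟨q, hq, rfl⟩
    exact hq.1
  have hxmem : ∀ a ∈ zpowers x ⊔ zpowers z, a ∈ omegaCenter Q := fun a ha =>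
    ⟨hcent a ⟨(sup_le (zpowers_le.2 hxS) (zpowers_le.2 h.zmem)) ha,
        (sup_le (zpowers_le.2 (mem_centralizer_singleton_iff.2 rfl))
          (zpowers_le.2 (mem_centralizer_singleton_iff.2 (h.zc x hxS).symm))) ha⟩ (hcz a ha),
      by rw [← pow_two]; exact hxzE.2 a ha, fun q hq => (hcz a ha q (hQT hq)).symm⟩
  have hxz4 : 4 ≤ Nat.card ↥(zpowers x ⊔ zpowers z) := by
    have h1 := card_two_le_of_lt (H36.NilPPrime.elem_isPGroup hxzE) (lt_of_le_of_ne le_sup_left fun e => by
      have hz : z ∈ zpowers x := e.symm ▸ mem_sup_right (mem_zpowers z)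
      obtain ⟨i, hi⟩ := mem_zpowers_iff.1 hz
      rcases Int.even_or_odd i with ⟨j, rfl⟩ | ⟨j, rfl⟩
      · rw [← two_mul, zpow_mul, zpow_two, ← pow_two, hx2, one_zpow] at hi
        exact h.z_ne hi.symm
      · rw [zpow_add_one, zpow_mul, zpow_two, ← pow_two, hx2, one_zpow, one_mul] at hi
        exact hxz hi)
    rw [Nat.card_zpowers, hx] at h1
    omega
  have hZ4 : 4 ≤ Nat.card ↥(omegaCenter Q) := hxz4.trans (card_le_of_le hxmem)
  obtain ⟨E, hZE, hES, hE, hE8⟩ : ∃ E : Subgroup G, omegaCenter Q ≤ E ∧ E ≤ (S : Subgroup G) ∧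
      Cfsg.IsElementaryAbelian 2 E ∧ 8 ≤ Nat.card E := by
    by_cases h8 : 8 ≤ Nat.card ↥(omegaCenter Q)
    · exact ⟨_, le_rfl, fun g hg => hQS hg.1, omegaCenter_elem Q, h8⟩
    · refine ⟨_, ?_, hD'S, hD', hD'8⟩
      have hle : Nat.card ↥(omegaCenter Q) ≤ 4 := by
        obtain ⟨j, hj⟩ := IsPGroup.iff_card.1 (H36.NilPPrime.elem_isPGroup (omegaCenter_elem Q))
        rw [hj] at h8 ⊢
        refine (Nat.pow_le_pow_right two_pos (?_ : j ≤ 2)).trans (by norm_num)
        by_contra hh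
        exact h8 ((show (8 : ℕ) = 2 ^ 3 by norm_num).le.trans (Nat.pow_le_pow_right two_pos (by omega)))
      exact (eq_of_le_of_card_ge hxmem (hle.trans hxz4)).ge.trans le_sup_right
  intro c hc
  have htop := frattini_inf P K
  have hcmem : (⟨c, hc⟩ : C) ∈ normalizer ((((P : Subgroup C) ⊓ K : Subgroup C)) : Set C) ⊔
      Cfsg.pPrimeCore 2 C := by
    have hKle : K ≤ normalizer ((((P : Subgroup C) ⊓ K : Subgroup C)) : Set C) ⊔ Cfsg.pPrimeCore 2 C := by
      intro k hk
      obtain ⟨s, hs, hsk⟩ := exists_lift hTC hTp hext hk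
      have hsK : s ∈ K := by show π s ∈ Cfsg.pCore 2 (C ⧸ Cfsg.pPrimeCore 2 C); rw [hsk]; exact hk
      have h1 : s⁻¹ * k ∈ Cfsg.pPrimeCore 2 C := QuotientGroup.eq.1 hsk
      have h2 := mul_mem (mem_sup_left (T := Cfsg.pPrimeCore 2 C)
        (le_normalizer (show s ∈ (P : Subgroup C) ⊓ K from ⟨hs, hsK⟩)))
        (mem_sup_right (S := normalizer ((((P : Subgroup C) ⊓ K : Subgroup C)) : Set C)) h1)
      rwa [mul_inv_cancel_left] at h2
    exact sup_le le_sup_left hKle (htop ▸ mem_top _)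
  obtain ⟨n, hn, k, hk, e⟩ := mem_sup_of_normal_right.1 hcmem
  have hkM : (k : G) ∈ normalizer (gen core V : Set G) := Subgroup.le_normalizer (hθ ⟨k, hk, rfl⟩)
  have hnQ : (n : G) ∈ normalizer (Q : Set G) := le_normalizer_map C.subtype ⟨n, hn, rfl⟩
  have hnM := h.mem_M_of_omega (fun g hg => omegaCenter_conj hnQ hg) hZE hES hE hE8 hZ4
  have e' : (n : G) * k = c := congrArg Subtype.val e
  exact e' ▸ mul_mem hnM hkM

/-- The centralizers of all involutions of `S` normalize the closure. -/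
theorem centralizer_le_M (h : Hyp S V z u) {x : G} (hxS : x ∈ (S : Subgroup G))
    (hx : orderOf x = 2) :
    centralizer ({x} : Set G) ≤ normalizer (gen core V : Set G) := by
  obtain ⟨g, hg1, -, hg3⟩ := Fusion.exists_extremal S (zpowers_le.2 hxS)
  set x' := g * x * g⁻¹ with hx'
  have hx'S : x' ∈ (S : Subgroup G) := hg1 ⟨x, mem_zpowers x, rfl⟩
  have hx'o : orderOf x' = 2 := by rw [hx', H26.orderOf_conj_eq, hx]
  have hmap : (zpowers x).map (MulAut.conj g).toMonoidHom = zpowers x' := MonoidHom.map_zpowers _ _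
  have hnc : normalizer ((zpowers x' : Subgroup G) : Set G) = centralizer ({x'} : Set G) := by
    ext w
    rw [mem_centralizer_singleton_iff, mem_normalizer_iff]
    constructor
    · intro hw
      obtain ⟨i, hi⟩ := mem_zpowers_iff.1 ((hw x').1 (mem_zpowers x'))
      have h2 : x' ^ (2 : ℤ) = 1 := by rw [zpow_two, ← pow_two, ← hx'o, pow_orderOf_eq_one]
      rcases Int.even_or_odd i with ⟨j, rfl⟩ | ⟨j, rfl⟩
      · rw [← two_mul, zpow_mul, h2, one_zpow, eq_comm] at hi
        have e1 : x' = 1 := conj_eq_one_iff.1 hi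
        rw [e1, orderOf_one] at hx'o
        omega
      · rw [zpow_add_one, zpow_mul, h2, one_zpow, one_mul] at hi
        exact (eq_mul_inv_iff_mul_eq.1 hi).symm
    · intro hw r
      constructor <;> intro hr
      · obtain ⟨i, rfl⟩ := mem_zpowers_iff.1 hr
        exact mem_zpowers_iff.2 ⟨i, by
          rw [((show Commute w x' from hw).zpow_right i).eq, mul_inv_cancel_right]⟩
      · obtain ⟨i, hi⟩ := mem_zpowers_iff.1 hr
        refine mem_zpowers_iff.2 ⟨i, ?_⟩
        calc x' ^ i = w⁻¹ * (w * x' ^ i) := by group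
          _ = w⁻¹ * (x' ^ i * w) := by rw [((show Commute w x' from hw).zpow_right i).eq]
          _ = r := by rw [hi]; group
  rw [hmap, hnc] at hg3
  have hC' := h.centralizer_le_of_extremal hx'S hx'o hg3
  have hA : ({x'} : Set G) ⊆ ((S : Subgroup G) : Set G) := Set.singleton_subset_iff.2 hx'S
  have hAg : (fun a => g⁻¹ * a * g) '' ({x'} : Set G) ⊆ ((S : Subgroup G) : Set G) := by
    rintro _ ⟨a, rfl, rfl⟩
    show g⁻¹ * x' * g ∈ (S : Subgroup G)
    rw [show g⁻¹ * x' * g = x by rw [hx']; group]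
    exact hxS
  obtain ⟨m, hm, e⟩ := h.conn (Fusion.alperin S hA hAg)
  have e1 : m⁻¹ * x' * m = x := by
    rw [e x' rfl, hx']
    group
  intro c hc
  have h1 : m * c * m⁻¹ ∈ centralizer ({x'} : Set G) := by
    rw [mem_centralizer_singleton_iff]
    have h2 := mem_centralizer_singleton_iff.1 hc
    rw [← e1] at h2
    calc m * c * m⁻¹ * x' = m * (c * (m⁻¹ * x' * m)) * m⁻¹ := by group
      _ = m * (m⁻¹ * x' * m * c) * m⁻¹ := by rw [h2]
      _ = x' * (m * c * m⁻¹) := by group
  have h3 := mul_mem (mul_mem (inv_mem hm) (hC' h1)) hm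
  simpa [mul_assoc] using h3

/-- The normalizer of `S` normalizes the closure. -/
theorem normalizer_S_le (h : Hyp S V z u) :
    normalizer ((S : Subgroup G) : Set G) ≤ normalizer (gen core V : Set G) :=
  fun _ hn => h.normalizer_centric le_rfl (fun _ hg _ => hg) hn

end Hyp

end Cfsg.Agent.H21.Dichotomy
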