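import Cfsg.Agent.H21.Dichotomy.Fusion
import Cfsg.Agent.H70.Balanced.Rows
import Cfsg.Agent.H26.RankThree

/-!
The Dichotomy Theorem, given that the core of a strongly embedded subgroup lies in the core of the
group.
-/

set_option autoImplicit false
set_option linter.unusedSectionVars false

namespace Cfsg.Agent.H21.Dichotomy

open Subgroup Cfsg.Agent.Fusion.Signalizer Cfsg.Agent.H70.Balanced
open Cfsg (centralizerPPrimeCore)

universe u

variable {G : Type u} [Group G] [Finite G]

local instance : Fact (Nat.Prime 2) := ⟨Nat.prime_two⟩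

theorem elem_of_sq {E : Subgroup G} (hE : ∀ e ∈ E, e ^ 2 = 1) : Cfsg.IsElementaryAbelian 2 E := by
  have hi : ∀ w ∈ E, w⁻¹ = w := fun w hw =>
    inv_eq_of_mul_eq_one_right (by rw [← pow_two]; exact hE w hw)
  refine ⟨⟨⟨fun a b => Subtype.ext ?_⟩⟩, hE⟩
  show (a : G) * b = b * a
  rw [← hi _ (mul_mem a.2 b.2), mul_inv_rev, hi _ a.2, hi _ b.2]

variable (hB : ∀ H : Subgroup G, Cfsg.IsStronglyEmbedded H →
  (Cfsg.oddCore ↥H).map H.subtype ≤ Cfsg.oddCore G)

include hB in
/-- Constrained involution centralizers, rank at least 3, no subgroup of index 2: the cores of the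
involution centralizers vanish. -/
theorem core_eq_bot (hO : Cfsg.oddCore G = ⊥) (hrank : ¬ Cfsg.PRankLE 2 2 G)
    (hno : ∀ H : Subgroup G, H.index ≠ 2)
    (hcon : ∀ t : G, orderOf t = 2 → Cfsg.IsPConstrained 2 ↥(centralizer ({t} : Set G)))
    {t : G} (ht : orderOf t = 2) : centralizerPPrimeCore 2 t = ⊥ := by
  obtain ⟨S⟩ : Nonempty (Sylow 2 G) := inferInstance
  by_cases hex : ∃ D : Subgroup G, D ≤ (S : Subgroup G) ∧ Cfsg.IsElementaryAbelian 2 D ∧
      (∀ s ∈ (S : Subgroup G), ∀ d ∈ D, s * d * s⁻¹ ∈ D) ∧ 4 < Nat.card D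
  · obtain ⟨D, hDS, hD, hDn, hD5⟩ := hex
    obtain ⟨k, hk⟩ := IsPGroup.iff_card.1 (H36.NilPPrime.elem_isPGroup hD)
    have hD8 : 8 ≤ Nat.card D := by
      rw [hk] at hD5 ⊢
      have hk3 : 3 ≤ k := by
        by_contra hh
        have : 2 ^ k ≤ 2 ^ 2 := Nat.pow_le_pow_right two_pos (by omega)
        omega
      exact (show (8 : ℕ) = 2 ^ 3 by norm_num).le.trans (Nat.pow_le_pow_right two_pos hk3)
    haveI : (D.subgroupOf (S : Subgroup G)).Normal :=
      ⟨fun d hd s => hDn s s.2 d hd⟩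
    have hS : Linked (S : Subgroup G) := linked_of_isFourConnected (Cfsg.Agent.S0502.result S.isPGroup'
      (D.subgroupOf (S : Subgroup G))
      ⟨⟨fun a b => Subtype.ext (Subtype.ext (H36.NilPPrime.elem_comm hD a.2 b.2))⟩⟩
      (fun e he => Subtype.ext (by simpa using hD.2 _ he))
      (by rwa [Nat.card_congr (subgroupOfEquivOfLe hDS).toEquiv]))
    exact core_eq_bot_of_constrained hO hrank S hS hcon hB ht
  push Not at hex
  obtain ⟨A, hAS, hA, hA8⟩ := exists_eight hrank S
  obtain ⟨A', hA'⟩ := Sylow.exists_subgroup_card_pow_prime_of_le_card (n := 3) (p := 2) Nat.prime_two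
    (H36.NilPPrime.elem_isPGroup hA) (by simpa using hA8)
  set A₁ := A'.map A.subtype with hA₁
  have hA₁A : A₁ ≤ A := map_subtype_le _
  have hA₁c : Nat.card A₁ = 8 := by
    rw [hA₁, card_map_of_injective A.subtype_injective, hA']; norm_num
  obtain ⟨U₀, hU₀n, hU₀, hU₀2⟩ := H26.exists_normal_four S.isPGroup'
    (A₁.subgroupOf (S : Subgroup G))
    (by rw [Nat.card_congr (subgroupOfEquivOfLe (hA₁A.trans hAS)).toEquiv, hA₁c])
    (fun e he => Subtype.ext (hA.2 _ (hA₁A he)))
  have hne : U₀ ≠ ⊥ := fun e => by rw [e, card_bot] at hU₀; omega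
  obtain ⟨z, hzU, hzc, hzo⟩ := PGroups.exists_mem_center_orderOf_eq S.isPGroup' U₀ hne
  obtain ⟨w, hwU, hwz⟩ : ∃ w ∈ U₀, w ∉ zpowers z := SetLike.not_le_iff_exists.1 fun hle => by
    have h1 := card_le_of_le hle
    rw [hU₀, Nat.card_zpowers, hzo] at h1
    omega
  set V := U₀.map (S : Subgroup G).subtype with hV
  have hgood : ∀ a : G, orderOf a = 2 → Good 2 a := fun a ha => by
    obtain ⟨E, hEC, hE8, hE2⟩ := H26.rank_three_centralizer hno
      ⟨A₁, hA₁c, fun e he => hA.2 _ (hA₁A he)⟩ a ha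
    exact ⟨ha, not_pRankLE_of_le hEC (elem_of_sq hE2) (by rw [hE8]; norm_num)⟩
  have hw1 : (w : G) ≠ 1 := fun e => hwz ((Subtype.ext e : w = 1) ▸ one_mem _)
  have h : Hyp S V (z : G) (w : G) :=
    { hcon := hcon
      good := hgood
      four := ⟨elem_of_sq (by
          rintro _ ⟨v, hv, rfl⟩
          rw [← map_pow, hU₀2 v hv, map_one]),
        by rw [hV, card_map_of_injective (S : Subgroup G).subtype_injective, hU₀]⟩
      le := map_subtype_le _
      conjV := by
        rintro s hs _ ⟨v, hv, rfl⟩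
        exact ⟨⟨s, hs⟩ * v * ⟨s, hs⟩⁻¹, hU₀n.conj_mem v hv _, rfl⟩
      zV := mem_map_of_mem _ hzU
      uV := mem_map_of_mem _ hwU
      zo := by rw [Subgroup.orderOf_coe, hzo]
      uo := orderOf_eq_prime (congrArg Subtype.val (hU₀2 w hwU)) hw1
      zu := fun e => hwz (by rw [← Subtype.ext e]; exact mem_zpowers z)
      zc := fun s hs => congrArg Subtype.val (mem_center_iff.1 hzc ⟨s, hs⟩)
      small := fun D hDS hD hDn => hex D hDS hD hDn
      eight := ⟨A, hAS, hA, hA8⟩ }
  set W := gen core V with hW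
  set M := normalizer (W : Set G) with hM
  have hWbot : W = ⊥ := by
    by_cases htop : M = ⊤
    · haveI : W.Normal := normalizer_eq_top_iff.1 htop
      exact le_bot_iff.1 ((Cores.le_oddCore h.odd_W).trans hO.le)
    have hSne : (S : Subgroup G) ≠ ⊥ := fun e => by
      have := card_le_of_le hAS
      rw [e, card_bot] at this
      omega
    have hse : Cfsg.IsStronglyEmbedded M := isStronglyEmbedded_of_centralizer_le htop S hSne
      h.normalizer_S_le fun x hxS hx => h.centralizer_le_M hxS hx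
    haveI : (W.subgroupOf M).Normal := normal_in_normalizer
    have h1 : W.subgroupOf M ≤ Cfsg.oddCore ↥M := Cores.le_oddCore (by
      rw [Nat.card_congr (subgroupOfEquivOfLe Subgroup.le_normalizer).toEquiv]; exact h.odd_W)
    refine le_bot_iff.1 (((?_ : W ≤ (Cfsg.oddCore ↥M).map M.subtype).trans (hB M hse)).trans hO.le)
    exact fun g hg => ⟨⟨g, Subgroup.le_normalizer hg⟩, h1 hg, rfl⟩
  -- every involution is conjugate to one whose core lies in `W`
  obtain ⟨g₀, hg₀⟩ := H39.exists_conj_le_sylow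
    (IsPGroup.of_card (n := 1) (by rw [Nat.card_zpowers, ht, pow_one]) : IsPGroup 2 (zpowers t)) S
  obtain ⟨E, hEC, hE, hE8⟩ := exists_elementary_of_not_pRankLE (hgood _
    (show orderOf (g₀ * t * g₀⁻¹) = 2 by rw [H26.orderOf_conj_eq, ht])).2
  set t₀ := g₀ * t * g₀⁻¹
  have ht₀ : t₀ ^ 2 = 1 := by
    rw [show (2 : ℕ) = orderOf t₀ by rw [H26.orderOf_conj_eq, ht], pow_orderOf_eq_one]
  have hs := elementary_sup hE (elementary_zpowers ht₀) fun a ha b hb => by
    obtain ⟨i, rfl⟩ := mem_zpowers_iff.1 hb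
    exact ((show Commute a t₀ from mem_centralizer_singleton_iff.1 (hEC ha)).zpow_right i).eq
  obtain ⟨g, hg⟩ := H39.exists_conj_le_sylow (H36.NilPPrime.elem_isPGroup hs) S
  set D := (E ⊔ zpowers t₀).map (MulAut.conj g).toMonoidHom
  have hmem : g * t₀ * g⁻¹ ∈ D := ⟨t₀, mem_sup_right (mem_zpowers _), rfl⟩
  have hto : orderOf (g * t₀ * g⁻¹) = 2 := by rw [H26.orderOf_conj_eq, H26.orderOf_conj_eq, ht]
  have hle := h.core_le_W (a := g * t₀ * g⁻¹) (D := D) (by rintro _ ⟨y, hy, rfl⟩; exact hg y hy)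
    (H36.NilPPrime.elem_map hs g)
    (by rw [H39.card_map_conj]; exact le_trans (by simpa using hE8) (card_le_of_le le_sup_left))
    hmem (fun e => by rw [e, orderOf_one] at hto; omega)
  rw [← hW, hWbot, le_bot_iff, core, centralizerPPrimeCore_conj,
    map_eq_bot_iff_of_injective _ (MulAut.conj g).injective, centralizerPPrimeCore_conj,
    map_eq_bot_iff_of_injective _ (MulAut.conj g₀).injective] at hle
  exact hle

include hB in
/-- The Dichotomy Theorem. -/
theorem dichotomy (heven : Even (Nat.card G)) (hO2 : ∀ N : Subgroup G, N.Normal → N.index ≠ 2)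
    (hO : Cfsg.oddCore G = ⊥) :
    Cfsg.PRankLE 2 2 G ∨ Cfsg.IsComponentType G ∨ Cfsg.IsCharacteristicTwoType G := by
  by_cases h3 : Cfsg.PRankLE 2 2 G
  · exact Or.inl h3
  by_cases hc : Cfsg.IsComponentType G
  · exact Or.inr (Or.inl hc)
  refine Or.inr (Or.inr ⟨heven, fun T hT hT1 => ?_⟩)
  have hno : ∀ H : Subgroup G, H.index ≠ 2 := fun H h2 => hO2 H (normal_of_index_eq_two h2) h2
  refine Components.genFitting_eq_pCore_iff.1 (Components.genFitting_normalizer_of_centralizers
    (fun t ht => Components.genFitting_eq_pCore_iff.2 ?_) hT hT1)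
  have h := core_eq_bot hB hO h3 hno (fun u hu => isPConstrained_of_not_componentType hc hu) ht
  rw [Cfsg.centralizerPPrimeCore, map_eq_bot_iff_of_injective _ (subtype_injective _)] at h
  exact (Cores.isPConstrained_iff_of_pPrimeCore_eq_bot h).1 (isPConstrained_of_not_componentType hc ht)

end Cfsg.Agent.H21.Dichotomy
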