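import Cfsg.Agent.H70.Balanced.Constrained
import Cfsg.Agent.Coprime.Generation
import Cfsg.Agent.H21.Dichotomy.Damp

/-!
A Sylow 2-subgroup without normal elementary subgroups of order 8 in a group with constrained
involution centralizers: one closure `W` for all elementary subgroups of order 8 of the Sylow
subgroup, normalized by the centralizer of a central involution.
-/

set_option autoImplicit false
set_option linter.unusedSectionVars false

namespace Cfsg.Agent.H21.Dichotomy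

open Subgroup Cfsg.Agent.Fusion.Signalizer Cfsg.Agent.H70.Balanced
open Cfsg (centralizerPPrimeCore)

universe u

variable {G : Type u} [Group G] [Finite G]

local instance : Fact (Nat.Prime 2) := ⟨Nat.prime_two⟩

/-- The setting: `V = ⟨z, u⟩` a four-group normal in `S`, with `z` central in `S`. -/
structure Hyp (S : Sylow 2 G) (V : Subgroup G) (z u : G) : Prop where
  hcon : ∀ t : G, orderOf t = 2 → Cfsg.IsPConstrained 2 ↥(centralizer ({t} : Set G))
  good : ∀ a : G, orderOf a = 2 → Good 2 a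
  four : Four V
  le : V ≤ (S : Subgroup G)
  conjV : ∀ s ∈ (S : Subgroup G), ∀ v ∈ V, s * v * s⁻¹ ∈ V
  zV : z ∈ V
  uV : u ∈ V
  zo : orderOf z = 2
  uo : orderOf u = 2
  zu : z ≠ u
  zc : ∀ s ∈ (S : Subgroup G), s * z = z * s
  small : ∀ D : Subgroup G, D ≤ (S : Subgroup G) → Cfsg.IsElementaryAbelian 2 D →
    (∀ s ∈ (S : Subgroup G), ∀ d ∈ D, s * d * s⁻¹ ∈ D) → Nat.card D ≤ 4
  eight : ∃ A : Subgroup G, A ≤ (S : Subgroup G) ∧ Cfsg.IsElementaryAbelian 2 A ∧ 8 ≤ Nat.card A

/-- the core functor -/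
abbrev core (a : G) : Subgroup G := centralizerPPrimeCore 2 a

theorem four_cases {U : Subgroup G} (hU : Four U) {a b : G} (ha : a ∈ U) (hb : b ∈ U)
    (ha1 : a ≠ 1) (hb1 : b ≠ 1) (hab : a ≠ b) :
    ∀ v ∈ U, v = 1 ∨ v = a ∨ v = b ∨ v = a * b := by
  intro v hv
  classical
  by_contra hc
  push Not at hc
  haveI : Fintype U := Fintype.ofFinite _
  let T : Finset U := {1, ⟨a, ha⟩, ⟨b, hb⟩, ⟨a * b, mul_mem ha hb⟩, ⟨v, hv⟩}
  have hab1 : a * b ≠ 1 := fun h => hab (by
    rw [eq_inv_of_mul_eq_one_left h, inv_eq_of_mul_eq_one_right (by rw [← pow_two]; exact hU.1.2 b hb)])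
  have hT : T.card = 5 := by
    simp only [T]
    repeat' rw [Finset.card_insert_of_notMem]
    · simp
    all_goals simp [Subtype.ext_iff, ha1, hb1, hab, hab1, Ne.symm ha1, Ne.symm hb1, Ne.symm hab1,
      Ne.symm hc.1, Ne.symm hc.2.1, Ne.symm hc.2.2.1, Ne.symm hc.2.2.2]
  have := Finset.card_le_univ T
  rw [hT, ← Nat.card_eq_fintype_card, hU.2] at this
  omega

theorem elem_four_or_eight {U V : Subgroup G} (hU : Four U) (hV : Four V)
    (hc : ∀ a ∈ U, ∀ b ∈ V, a * b = b * a) :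
    U = V ∨ (Cfsg.IsElementaryAbelian 2 (U ⊔ V : Subgroup G) ∧ 8 ≤ Nat.card ↥(U ⊔ V)) := by
  by_cases h : U = V
  · exact Or.inl h
  · exact Or.inr ⟨elementary_sup hU.1 hV.1 hc, eight_le_sup hU hV hc h⟩

namespace Hyp

variable {S : Sylow 2 G} {V : Subgroup G} {z u : G}

theorem fn (h : Hyp S V z u) : IsBalancedFunctor (core : G → Subgroup G) :=
  core_functor_of_balanced (balanced_of_constrained h.hcon)

theorem balance (h : Hyp S V z u) {a b : G} (ha : orderOf a = 2) (hb : orderOf b = 2)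
    (hab : a * b = b * a) : core a ⊓ centralizer ({b} : Set G) ≤ core b :=
  balanced_of_constrained h.hcon a b ha hb hab

theorem good_four (h : Hyp S V z u) {U : Subgroup G} (hU : Four U) :
    ∀ a ∈ U, a ≠ 1 → Good 2 a :=
  fun a ha h1 => h.good a (orderOf_eq_prime (hU.1.2 a ha) h1)

theorem z_ne (h : Hyp S V z u) : z ≠ 1 := fun e => by
  have := h.zo; rw [e, orderOf_one] at this; omega

theorem u_ne (h : Hyp S V z u) : u ≠ 1 := fun e => by
  have := h.uo; rw [e, orderOf_one] at this; omega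

theorem zz (h : Hyp S V z u) : z * z = 1 := by rw [← pow_two, ← h.zo, pow_orderOf_eq_one]

theorem zu_comm (h : Hyp S V z u) : z * u = u * z := H36.NilPPrime.elem_comm h.four.1 h.zV h.uV

theorem zmem (h : Hyp S V z u) : z ∈ (S : Subgroup G) := h.le h.zV

/-- the two choices of `u` -/
theorem swap (h : Hyp S V z u) : Hyp S V z (z * u) :=
  { h with
    uV := mul_mem h.zV h.uV
    uo := orderOf_eq_prime (h.four.1.2 _ (mul_mem h.zV h.uV)) fun e => h.zu (by
      rw [eq_inv_of_mul_eq_one_left e, inv_eq_of_mul_eq_one_right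
        (by rw [← pow_two, ← h.uo, pow_orderOf_eq_one])])
    zu := fun e => h.u_ne (mul_eq_left.1 e.symm) }

theorem conj_u (h : Hyp S V z u) {s : G} (hs : s ∈ (S : Subgroup G)) :
    s * u * s⁻¹ = u ∨ s * u * s⁻¹ = z * u := by
  rcases four_cases h.four h.zV h.uV h.z_ne h.u_ne h.zu _ (h.conjV s hs u h.uV) with e | e | e | e
  · exact absurd (conj_eq_one_iff.1 e) h.u_ne
  · have e2 : s * u * s⁻¹ = s * z * s⁻¹ := by rw [e, h.zc s hs, mul_inv_cancel_right]
    exact absurd (mul_left_cancel (mul_right_cancel e2)).symm h.zu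
  · exact Or.inl e
  · exact Or.inr e

/-- `S ⊓ C(u)` has index at most 2. -/
theorem index_two (h : Hyp S V z u) {s y : G} (hs : s ∈ (S : Subgroup G))
    (hy : y ∈ (S : Subgroup G)) (hyu : y ∉ centralizer ({u} : Set G)) :
    s ∈ centralizer ({u} : Set G) ∨ s * y ∈ centralizer ({u} : Set G) := by
  have e : ∀ {r : G}, r ∈ centralizer ({u} : Set G) ↔ r * u * r⁻¹ = u := fun {r} => by
    rw [mem_centralizer_singleton_iff, mul_inv_eq_iff_eq_mul]
  rcases h.conj_u hs with h1 | h1
  · exact Or.inl (e.2 h1)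
  rcases h.conj_u hy with h2 | h2
  · exact absurd (e.2 h2) hyu
  refine Or.inr (e.2 ?_)
  calc s * y * u * (s * y)⁻¹ = s * (y * u * y⁻¹) * s⁻¹ := by group
    _ = s * (z * u) * s⁻¹ := by rw [h2]
    _ = (s * z) * u * s⁻¹ := by rw [mul_assoc s z u]
    _ = z * (s * u * s⁻¹) := by rw [h.zc s hs]; group
    _ = u := by rw [h1, ← mul_assoc, h.zz, one_mul]

theorem centV (h : Hyp S V z u) {s : G} (hs : s ∈ (S : Subgroup G))
    (hsu : s ∈ centralizer ({u} : Set G)) : ∀ v ∈ V, s * v = v * s := by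
  intro v hv
  have h1 := mem_centralizer_singleton_iff.1 hsu
  rcases four_cases h.four h.zV h.uV h.z_ne h.u_ne h.zu v hv with rfl | rfl | rfl | rfl
  · simp
  · exact h.zc s hs
  · exact h1
  · rw [← mul_assoc, h.zc s hs, mul_assoc, h1, ← mul_assoc]

theorem exists_four_cent (h : Hyp S V z u) {D : Subgroup G} (hDS : D ≤ (S : Subgroup G))
    (hD : Cfsg.IsElementaryAbelian 2 D) (hD8 : 8 ≤ Nat.card D) :
    ∃ U ≤ D, Four U ∧ ∀ a ∈ U, ∀ b ∈ V, a * b = b * a := by
  classical
  set D0 := D ⊓ centralizer ({u} : Set G)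
  have h4 : 4 ≤ Nat.card D0 := by
    by_cases hy : ∃ y ∈ D, y ∉ centralizer ({u} : Set G)
    · obtain ⟨y, hy, hyu⟩ := hy
      let f : D → D0 × Bool := fun d =>
        if hd : (d : G) ∈ centralizer ({u} : Set G) then (⟨d, d.2, hd⟩, true)
        else (⟨d * y, mul_mem d.2 hy, ((h.index_two (hDS d.2) (hDS hy) hyu).resolve_left hd)⟩, false)
      have hf : Function.Injective f := by
        intro a b e
        simp only [f] at e
        split_ifs at e
        · exact Subtype.ext (by simpa using congrArg (fun w => (w.1 : G)) e)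
        · exact Bool.noConfusion (congrArg Prod.snd e)
        · exact Bool.noConfusion (congrArg Prod.snd e)
        · exact Subtype.ext (mul_right_cancel (congrArg (fun w => (w.1 : G)) e))
      have := Nat.card_le_card_of_injective f hf
      simp [Nat.card_prod] at this
      omega
    · push Not at hy
      rw [show D0 = D from inf_eq_left.2 hy]
      omega
  obtain ⟨U, hU0, hU⟩ := exists_four_le (H40.elemAb_mono hD inf_le_left) h4
  exact ⟨U, hU0.trans inf_le_left, hU, fun a ha b hb =>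
    h.centV (hDS (hU0 ha).1) (hU0 ha).2 b hb⟩

theorem eight_gen (h : Hyp S V z u) {D : Subgroup G} (hDS : D ≤ (S : Subgroup G))
    (hD : Cfsg.IsElementaryAbelian 2 D) (hD8 : 8 ≤ Nat.card D) :
    (∃ E : Subgroup G, V ≤ E ∧ E ≤ (S : Subgroup G) ∧ Cfsg.IsElementaryAbelian 2 E ∧ 8 ≤ Nat.card E) ∧
      gen core D = gen core V := by
  obtain ⟨U, hUD, hU, hc⟩ := h.exists_four_cent hDS hD hD8
  have h1 := (gen_eq_gen h.fn hD hD8 hUD hU.2.ge).1
  rcases elem_four_or_eight hU h.four hc with rfl | ⟨hs, h8⟩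
  · exact ⟨⟨D, hUD, hDS, hD, hD8⟩, h1.symm⟩
  · refine ⟨⟨U ⊔ V, le_sup_right, sup_le (hUD.trans hDS) h.le, hs, h8⟩, ?_⟩
    rw [← h1, (gen_eq_gen h.fn hs h8 le_sup_left hU.2.ge).1,
      ← (gen_eq_gen h.fn hs h8 le_sup_right h.four.2.ge).1]

theorem V_eight (h : Hyp S V z u) :
    ∃ E : Subgroup G, V ≤ E ∧ E ≤ (S : Subgroup G) ∧ Cfsg.IsElementaryAbelian 2 E ∧ 8 ≤ Nat.card E := by
  obtain ⟨A, hAS, hA, hA8⟩ := h.eight
  exact (h.eight_gen hAS hA hA8).1

theorem gen_four (h : Hyp S V z u) {U D : Subgroup G} (hU : Four U) (hUD : U ≤ D)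
    (hDS : D ≤ (S : Subgroup G)) (hD : Cfsg.IsElementaryAbelian 2 D) (hD8 : 8 ≤ Nat.card D) :
    gen core U = gen core V := by
  rw [(gen_eq_gen h.fn hD hD8 hUD hU.2.ge).1, (h.eight_gen hDS hD hD8).2]

theorem odd_W (h : Hyp S V z u) : Odd (Nat.card ↥(gen core V)) := by
  obtain ⟨E, hVE, -, hE, hE8⟩ := h.V_eight
  rw [← Nat.not_even_iff_odd, even_iff_two_dvd]
  exact (gen_eq_gen h.fn hE hE8 hVE h.four.2.ge).2

theorem W_le_of_map (h : Hyp S V z u) {n : G}
    (hle : gen core V ≤ gen core (V.map (MulAut.conj n).toMonoidHom)) :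
    n ∈ normalizer (gen core V : Set G) := by
  rw [H39.mem_normalizer_iff_map_conj]
  rw [gen_map h.fn (h.good_four h.four)] at hle
  exact (eq_of_le_of_card_ge hle (by rw [H39.card_map_conj])).symm

/-- A subgroup that holds the same closure after conjugation. -/
theorem mem_M_of_gen (h : Hyp S V z u) {U : Subgroup G} (hU : Four U)
    (hgen : gen core U = gen core V) {n : G}
    (hn : gen core (U.map (MulAut.conj n).toMonoidHom) = gen core V) :
    n ∈ normalizer (gen core V : Set G) := by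
  rw [H39.mem_normalizer_iff_map_conj, ← hgen, ← gen_map h.fn (h.good_four hU), hn, hgen]

theorem S_le_M (h : Hyp S V z u) : (S : Subgroup G) ≤ normalizer (gen core V : Set G) := by
  intro s hs
  refine h.W_le_of_map (le_of_eq (congrArg _ (eq_of_le_of_card_ge ?_ (by rw [H39.card_map_conj])).symm))
  rintro _ ⟨v, hv, rfl⟩
  exact h.conjV s hs v hv

theorem core_le_W (h : Hyp S V z u) {a : G} {D : Subgroup G} (hDS : D ≤ (S : Subgroup G))
    (hD : Cfsg.IsElementaryAbelian 2 D) (hD8 : 8 ≤ Nat.card D) (ha : a ∈ D) (h1 : a ≠ 1) :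
    core a ≤ gen core V :=
  (le_gen (θ := core) ha h1).trans (h.eight_gen hDS hD hD8).2.le

end Hyp

end Cfsg.Agent.H21.Dichotomy
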